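import Cfsg.Agent.BoundedAlt.Engine

/-!
# The order bound
-/

set_option autoImplicit false

namespace CfsgLib.BoundedAlt

open Equiv Equiv.Perm

variable {G : Type*} [Group G] {p : ℕ} [Fact p.Prime]

/-- A finite subgroup with a normalising element whose square lies in it. -/
theorem card_le_of_extension {K : Subgroup G} [Finite K] {e : ℕ} (he : e = 1 ∨ e = 2) {b : G}
    (hb : b ^ e ∈ K) (hn : ∀ k ∈ K, b * k * b⁻¹ ∈ K) {S : Set G} (hS : Subgroup.closure S = ⊤)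
    (hSK : ∀ s ∈ S, s ∈ K ∨ s = b) : Finite G ∧ Nat.card G ≤ e * Nat.card K := by
  let f : Fin e × K → G := fun z => b ^ (z.1 : ℕ) * z.2
  suffices hsurj : Function.Surjective f by
    refine ⟨Finite.of_surjective f hsurj, ?_⟩
    have := Nat.card_le_card_of_surjective f hsurj
    rwa [Nat.card_prod, Nat.card_fin] at this
  rcases he with rfl | rfl
  · intro g
    rw [pow_one] at hb
    have : (⊤ : Subgroup G) ≤ K := hS ▸ (Subgroup.closure_le K).2 fun s hs =>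
      (hSK s hs).elim id fun e => e ▸ hb
    exact ⟨(0, ⟨g, this trivial⟩), by simp [f]⟩
  · have hbi : ∀ k ∈ K, b⁻¹ * k * b ∈ K := fun k hk => by
      have := mul_mem (mul_mem (inv_mem hb) (hn k hk)) hb
      rwa [show (b ^ 2)⁻¹ * (b * k * b⁻¹) * b ^ 2 = b⁻¹ * k * b by simp only [sq]; group] at this
    let H : Subgroup G :=
      { carrier := {g | g ∈ K ∨ b⁻¹ * g ∈ K}
        one_mem' := Or.inl (one_mem _)
        mul_mem' := by
          rintro x y (hx | hx) (hy | hy)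
          · exact Or.inl (mul_mem hx hy)
          · right
            have := mul_mem (hbi x hx) hy
            rwa [show b⁻¹ * x * b * (b⁻¹ * y) = b⁻¹ * (x * y) by group] at this
          · right; rw [← mul_assoc]; exact mul_mem hx hy
          · left
            have := mul_mem (mul_mem hb (hbi _ hx)) hy
            rwa [show b ^ 2 * (b⁻¹ * (b⁻¹ * x) * b) * (b⁻¹ * y) = x * y by simp only [sq]; group] at this
        inv_mem' := by
          rintro x (hx | hx)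
          · exact Or.inl (inv_mem hx)
          · right
            have := mul_mem (inv_mem hb) (hn _ (inv_mem hx))
            rwa [show (b ^ 2)⁻¹ * (b * (b⁻¹ * x)⁻¹ * b⁻¹) = b⁻¹ * x⁻¹ by simp only [sq]; group] at this }
    have hH : (⊤ : Subgroup G) ≤ H := hS ▸ (Subgroup.closure_le H).2 fun s hs =>
      (hSK s hs).elim Or.inl fun e => Or.inr (by rw [e, inv_mul_cancel]; exact one_mem _)
    intro g
    rcases hH (show g ∈ ⊤ from trivial) with h | h
    · exact ⟨(0, ⟨g, h⟩), by simp [f]⟩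
    · exact ⟨(1, ⟨_, h⟩), by simp [f]⟩

theorem closure_conj_le {S : Set G} {b : G} (h : ∀ s ∈ S, b * s * b⁻¹ ∈ Subgroup.closure S) :
    ∀ k ∈ Subgroup.closure S, b * k * b⁻¹ ∈ Subgroup.closure S := by
  intro k hk
  exact (Subgroup.closure_le ((Subgroup.closure S).comap (MulAut.conj b).toMonoidHom)).2
    (fun s hs => by simpa using h s hs) hk

namespace Seed

variable (D : Seed G p) (hp : 5 ≤ p)

/-- The bound on `p + 2` points, from four relations and the value of `b ^ e`. -/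
theorem bound (he : D.e = 1 ∨ D.e = 2) (hb : D.b ^ D.e = D.ev hp (permB p D.g D.e ^ D.e))
    (hgen : Subgroup.closure {D.a, D.b, D.x} = ⊤) :
    Finite G ∧ 2 * Nat.card G ≤ D.e * (p + 2).factorial := by
  set K := Subgroup.closure (Set.range D.xs) with hK
  obtain ⟨hfin, hcard⟩ := (D.isCarmichael hp).card_le Finset.univ
  rw [Finset.coe_univ, Set.image_univ, ← hK] at hfin hcard
  rw [Finset.card_univ, ZMod.card] at hcard
  have : Finite K := hfin.to_subtype
  have hxs : ∀ i, D.xs i ∈ K := fun i => Subgroup.subset_closure ⟨i, rfl⟩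
  obtain ⟨h1, h2⟩ := card_le_of_extension (K := K) he (hb ▸ D.ev_mem hp _)
    (closure_conj_le fun s hs => by
      obtain ⟨i, rfl⟩ := hs
      have := D.b_pow_xs 1 i
      simp only [pow_one] at this
      rw [this]; exact pow_mem (hxs _) _) hgen
    (fun s hs => by
      rcases hs with rfl | rfl | rfl
      · exact Or.inl (D.a_mem hp he (D.permB_pow_mem hp he) hb)
      · exact Or.inr rfl
      · exact Or.inl (D.xs_zero ▸ hxs 0))
  exact ⟨h1, le_trans (Nat.mul_le_mul_left 2 h2) (by rw [mul_left_comm]; exact Nat.mul_le_mul_left _ hcard)⟩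

end Seed

namespace Rels

variable {d : ℕ} (E : Rels G p d)

theorem cS_comm_left {i : Pt p} (hi : i ∈ dL p d) :
    Commute E.cS (E.D.ev E.hp (cyc3 i (Sum.inr 0) (pt p 0))) := by
  have hu : i ≠ Sum.inr 0 := fun e => inr_notMem_dL 0 (e ▸ hi)
  have hq : i ≠ pt p 0 := fun e => pt_notMem_dL E.hd (by have := E.hp; omega) (Or.inl rfl) (e ▸ hi)
  have h : ∀ σ ∈ alternatingGroup (Pt p), σ (Sum.inr 1) = Sum.inr 1 → σ (pt p (d + 1)) = pt p (d + 1) →
      Commute E.cS (E.D.ev E.hp σ) := by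
    intro σ hσ hv hq'
    have hk := E.kap_eq
    let M : Subgroup (Perm (Pt p)) :=
      { carrier := {σ | σ ∈ alternatingGroup (Pt p) ∧ Commute E.cS (E.D.ev E.hp σ)}
        one_mem' := ⟨one_mem _, by rw [E.D.ev_one E.hp]; exact Commute.one_right _⟩
        mul_mem' := fun {a b} ha hb => ⟨mul_mem ha.1 hb.1, by
          rw [E.D.ev_mul E.hp ha.1 hb.1]; exact ha.2.mul_right hb.2⟩
        inv_mem' := fun {a} ha => ⟨inv_mem ha.1, by rw [E.D.ev_inv E.hp ha.1]; exact ha.2.inv_right⟩ }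
    have hX : permX p d ∈ M := by
      refine ⟨Equiv.Perm.mem_alternatingGroup.2 (sign_permX E.hd E.hp E.hd1), ?_⟩
      have h1 := E.hK
      rw [← Rels.kap, hk, ← Rels.cS, mul_inv_eq_one, mul_inv_eq_iff_eq_mul] at h1
      exact h1.symm
    set S : Set (Pt p) := {z | z ∉ dL p d ∧ z ≠ Sum.inr 1 ∧ z ≠ pt p (d + 1)}
    have hS : Rich M S := by
      intro a ha b hb c hc hab hac hbc
      have hm : cyc3 a b c ∈ alternatingGroup (Pt p) := Equiv.Perm.mem_alternatingGroup.2 (sign_cyc3 a b c hab hbc)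
      exact ⟨hm, E.cS_comm_small hm (fun z hz => cyc3_apply_of_ne (fun e => ha.1 (e ▸ hz))
        (fun e => hb.1 (e ▸ hz)) (fun e => hc.1 (e ▸ hz))) (cyc3_apply_of_ne ha.2.1.symm hb.2.1.symm hc.2.1.symm)
        (cyc3_apply_of_ne ha.2.2.symm hb.2.2.symm hc.2.2.symm)⟩
    have hfix : ∃ r s : Pt p, r ≠ s ∧ r ∈ S ∧ s ∈ S ∧ permX p d r = r ∧ permX p d s = s := by
      have := E.hd
      by_cases hd2 : d % 2 = 1
      · have := room E.hd E.hp hd2
        refine ⟨pt p (d + 2), pt p (d + 3), fun e => ?_, ?_, ?_, ?_, ?_⟩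
        · have := pt_inj (by omega) (by omega) e; omega
        all_goals first
          | exact ⟨pt_notMem_dL E.hd (by omega) (by omega), pt_ne_inr _ _, fun e => by
              have := pt_inj (by omega) (by omega) e; omega⟩
          | exact permX_fix (pt_notMem_dL E.hd (by omega) (by omega)) (pt_ne_inr _ _) fun e => by
              have := pt_inj (by omega) (by omega) e; omega
      · obtain ⟨r, s, hrs, hr, hs⟩ :=
          two_fixed E.hd E.hp (a := d + 1) (b := 0) (Or.inr rfl) (Or.inl rfl) (by omega)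
        refine ⟨r, s, hrs, ⟨hr.1, hr.2.1 1, hr.2.2⟩, ⟨hs.1, hs.2.1 1, hs.2.2⟩, ?_, ?_⟩ <;>
          refine List.formPerm_apply_of_notMem ?_
        · simp [hd2, hr.1, hr.2.1 0]
        · simp [hd2, hs.1, hs.2.1 0]
    obtain ⟨r, s, hrs, hrS, hsS, hr, hs⟩ := hfix
    have hT := hS.orbit (fun m hm => mul_mem (mul_mem hX hm) (inv_mem hX)) hrs hrS hsS
      (hr.symm ▸ hrS) (hs.symm ▸ hsS)
    refine ((hT.mono (T := {z | z ≠ Sum.inr 1 ∧ z ≠ pt p (d + 1)}) ?_).mem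
      (Equiv.Perm.mem_alternatingGroup.1 hσ) ?_).2
    · intro z hz
      by_cases h : z ∈ dL p d
      · obtain ⟨j, hj⟩ := permX_reach E.hd E.hp h
        exact ⟨j, Sum.inr 0, ⟨inr_notMem_dL 0, by simp, (pt_ne_inr _ _).symm⟩, hj⟩
      · exact ⟨0, z, ⟨h, hz.1, hz.2⟩, rfl⟩
    · intro z hz
      simp only [Set.mem_ofPred_eq, not_and_or, not_not] at hz
      rcases hz with rfl | rfl <;> assumption
  have hd := E.hd
  refine h _ (Equiv.Perm.mem_alternatingGroup.2 (sign_cyc3 _ _ _ hu (pt_ne_inr _ _).symm)) ?_ ?_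
  · exact cyc3_apply_of_ne (fun e => inr_notMem_dL 1 (e ▸ hi)) (by simp) (pt_ne_inr _ _).symm
  · refine cyc3_apply_of_ne (fun e => pt_notMem_dL E.hd (by omega) (Or.inr (by omega)) (e ▸ hi))
      (pt_ne_inr _ _) fun e => ?_
    have := pt_inj (by omega) (by omega) e
    omega

theorem beta_comm {i j : Pt p} (hi : i ∈ dL p d) (hj : j ∈ dL p d) :
    Commute (E.D.ev E.hp (cyc3 i (Sum.inr 0) (pt p 0)))
      (E.y * E.D.ev E.hp (cyc3 j (Sum.inr 1) (pt p (d + 1))) * E.y⁻¹) := by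
  have hd := E.hd
  have hu : i ≠ Sum.inr 0 := fun e => inr_notMem_dL 0 (e ▸ hi)
  have hq : i ≠ pt p 0 := fun e => pt_notMem_dL E.hd (by omega) (Or.inl rfl) (e ▸ hi)
  set α₀ := cyc3 i (Sum.inr 0) (pt p 0)
  have hα : α₀ ∈ alternatingGroup (Pt p) :=
    Equiv.Perm.mem_alternatingGroup.2 (sign_cyc3 _ _ _ hu (pt_ne_inr _ _).symm)
  let L : Subgroup (Perm (Pt p)) :=
    { carrier := {τ | τ ∈ alternatingGroup (Pt p) ∧ Commute (E.D.ev E.hp α₀) (E.y * E.D.ev E.hp τ * E.y⁻¹)}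
      one_mem' := ⟨one_mem _, by simp [E.D.ev_one E.hp]⟩
      mul_mem' := fun {a b} ha hb => ⟨mul_mem ha.1 hb.1, by
        have := ha.2.mul_right hb.2
        rw [show E.y * E.D.ev E.hp a * E.y⁻¹ * (E.y * E.D.ev E.hp b * E.y⁻¹) =
          E.y * (E.D.ev E.hp a * E.D.ev E.hp b) * E.y⁻¹ by group, ← E.D.ev_mul E.hp ha.1 hb.1] at this
        exact this⟩
      inv_mem' := fun {a} ha => ⟨inv_mem ha.1, by
        have := ha.2.inv_right
        rw [show (E.y * E.D.ev E.hp a * E.y⁻¹)⁻¹ = E.y * (E.D.ev E.hp a)⁻¹ * E.y⁻¹ by group,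
          ← E.D.ev_inv E.hp ha.1] at this
        exact this⟩ }
  have hS : permS p d ∈ L :=
    ⟨Equiv.Perm.mem_alternatingGroup.2 (sign_permS E.hd E.hp E.hd1), (E.cS_comm_left hi).symm⟩
  set Q : Set (Pt p) := {z | z ∉ dL p d ∧ z ≠ Sum.inr 0 ∧ z ≠ pt p 0}
  have hQ : Rich L Q := by
    intro a ha b hb c hc hab hac hbc
    have hm : cyc3 a b c ∈ alternatingGroup (Pt p) := Equiv.Perm.mem_alternatingGroup.2 (sign_cyc3 a b c hab hbc)
    refine ⟨hm, ?_⟩
    have hf : ∀ z ∈ dL p d, cyc3 a b c z = z := fun z hz => cyc3_apply_of_ne (fun e => ha.1 (e ▸ hz))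
      (fun e => hb.1 (e ▸ hz)) (fun e => hc.1 (e ▸ hz))
    rw [E.y_acts hm hf]
    set τ := permPi p d * cyc3 a b c * permPi p d
    have hτ : τ ∈ alternatingGroup (Pt p) := pi_conj_mem E.hd hm
    have hdis : Perm.Disjoint α₀ τ := by
      intro z
      by_cases h1 : z = i
      · subst h1; exact Or.inr (pi_fix (permPi_dL E.hd E.hp hi) (hf z hi))
      by_cases h2 : z = Sum.inr 0
      · subst h2
        exact Or.inr (pi_fix (permPi_inr _) (cyc3_apply_of_ne ha.2.1.symm hb.2.1.symm hc.2.1.symm))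
      by_cases h3 : z = pt p 0
      · subst h3
        exact Or.inr (pi_fix (permPi_pt E.hd E.hp (by omega))
          (cyc3_apply_of_ne ha.2.2.symm hb.2.2.symm hc.2.2.symm))
      exact Or.inl (cyc3_apply_of_ne h1 h2 h3)
    rw [Commute, SemiconjBy, ← E.D.ev_mul E.hp hα hτ, ← E.D.ev_mul E.hp hτ hα, hdis.commute.eq]
  have hfix : ∃ r s : Pt p, r ≠ s ∧ r ∈ Q ∧ s ∈ Q ∧ permS p d r = r ∧ permS p d s = s := by
    by_cases hd2 : d % 2 = 1
    · have := room E.hd E.hp hd2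
      refine ⟨pt p (d + 2), pt p (d + 3), fun e => ?_, ?_, ?_, ?_, ?_⟩
      · have := pt_inj (by omega) (by omega) e; omega
      all_goals first
        | exact ⟨pt_notMem_dL E.hd (by omega) (by omega), pt_ne_inr _ _, fun e => by
            have := pt_inj (by omega) (by omega) e; omega⟩
        | exact permS_fix (pt_notMem_dL E.hd (by omega) (by omega)) (pt_ne_inr _ _) fun e => by
            have := pt_inj (by omega) (by omega) e; omega
    · obtain ⟨r, s, hrs, hr, hs⟩ := two_fixed E.hd E.hp (a := 0) (b := d + 1) (Or.inl rfl) (Or.inr rfl) (by omega)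
      refine ⟨r, s, hrs, ⟨hr.1, hr.2.1 0, hr.2.2⟩, ⟨hs.1, hs.2.1 0, hs.2.2⟩, ?_, ?_⟩ <;>
        refine List.formPerm_apply_of_notMem ?_
      · simp [hd2, hr.1, hr.2.1 1]
      · simp [hd2, hs.1, hs.2.1 1]
  obtain ⟨r, s, hrs, hrQ, hsQ, hr, hs⟩ := hfix
  have hT := hQ.orbit (fun m hm => mul_mem (mul_mem hS hm) (inv_mem hS)) hrs hrQ hsQ
    (hr.symm ▸ hrQ) (hs.symm ▸ hsQ)
  have h1 : Sum.inr 1 ∈ Q := ⟨inr_notMem_dL 1, by simp, (pt_ne_inr _ _).symm⟩
  have h2 : pt p (d + 1) ∈ Q := ⟨pt_notMem_dL E.hd (by omega) (Or.inr (by omega)), pt_ne_inr _ _, fun e => by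
    have := pt_inj (by omega) (by omega) e; omega⟩
  obtain ⟨k, hk⟩ := permS_reach E.hd E.hp hj
  exact (hT j ⟨k, _, h1, hk⟩ _ ⟨0, _, h1, rfl⟩ _ ⟨0, _, h2, rfl⟩ (fun e => inr_notMem_dL 1 (e ▸ hj))
    (fun e => h2.1 ((show j = pt p (d + 1) from e) ▸ hj)) (pt_ne_inr _ _).symm).2

/-- Carmichael's elements on all `p + d + 2` points. -/
def xx : ZMod p ⊕ Fin d → G :=
  Sum.elim E.D.xs fun i => E.y * E.D.xs ((((i : ℕ) + 1 : ℕ)) : ZMod p) * E.y⁻¹

theorem pair_far {i j : ZMod p} (hi : Sum.inl i ∈ dL p d) (hj : Sum.inl j ∈ dL p d) :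
    (E.D.xs i * (E.y * E.D.xs j * E.y⁻¹)) ^ 2 = 1 := by
  have hd := E.hd
  set u : Pt p := Sum.inr 0
  set v : Pt p := Sum.inr 1
  set q := pt p 0
  set q' := pt p (d + 1)
  set I : Pt p := Sum.inl i
  set J : Pt p := Sum.inl j
  have huv : u ≠ v := by simp [u, v]
  have huq : u ≠ q := (pt_ne_inr _ _).symm
  have huq' : u ≠ q' := (pt_ne_inr _ _).symm
  have hvq : v ≠ q := (pt_ne_inr _ _).symm
  have hvq' : v ≠ q' := (pt_ne_inr _ _).symm
  have hqq' : q ≠ q' := fun e => by have := pt_inj (by omega) (by omega) e; omega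
  have qmem : q ∉ dL p d := pt_notMem_dL E.hd (by omega) (Or.inl rfl)
  have q'mem : q' ∉ dL p d := pt_notMem_dL E.hd (by omega) (Or.inr (by omega))
  have hIq : I ≠ q := fun e => qmem (e ▸ hi)
  have hJq : J ≠ q := fun e => qmem (e ▸ hj)
  have hIq' : I ≠ q' := fun e => q'mem (e ▸ hi)
  have hJq' : J ≠ q' := fun e => q'mem (e ▸ hj)
  have hIu : I ≠ u := Sum.inl_ne_inr
  have hIv : I ≠ v := Sum.inl_ne_inr
  have hJu : J ≠ u := Sum.inl_ne_inr
  have hJv : J ≠ v := Sum.inl_ne_inr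
  set σ₁ := cyc3 u v q
  set ω := Equiv.swap u q * Equiv.swap v q'
  set α₀ := cyc3 I u q
  set β₀ := cyc3 J v q'
  have mσ : σ₁ ∈ alternatingGroup (Pt p) := Equiv.Perm.mem_alternatingGroup.2 (sign_cyc3 _ _ _ huv hvq)
  have mω : ω ∈ alternatingGroup (Pt p) := by
    rw [Equiv.Perm.mem_alternatingGroup, map_mul, Perm.sign_swap huq, Perm.sign_swap hvq']; simp
  have mα : α₀ ∈ alternatingGroup (Pt p) := Equiv.Perm.mem_alternatingGroup.2 (sign_cyc3 _ _ _ hIu huq)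
  have mβ : β₀ ∈ alternatingGroup (Pt p) := Equiv.Perm.mem_alternatingGroup.2 (sign_cyc3 _ _ _ hJv hvq')
  have πu : permPi p d u = u := permPi_inr 0
  have πv : permPi p d v = v := permPi_inr 1
  have πq : permPi p d q = q := permPi_pt E.hd E.hp (by omega)
  have πq' : permPi p d q' = q' := permPi_pt E.hd E.hp le_rfl
  -- `π` centralises `σ₁` and `ω`
  have cσ : permPi p d * σ₁ * permPi p d = σ₁ := by
    nth_rw 2 [← permPi_inv E.hd]
    rw [cyc3_conj, πu, πv, πq]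
  have cω : permPi p d * ω * permPi p d = ω := by
    nth_rw 2 [← permPi_inv E.hd]
    rw [show permPi p d * ω * (permPi p d)⁻¹ = permPi p d * Equiv.swap u q * (permPi p d)⁻¹ *
      (permPi p d * Equiv.swap v q' * (permPi p d)⁻¹) by simp only [ω]; group, ← Equiv.swap_apply_apply,
      ← Equiv.swap_apply_apply, πu, πv, πq, πq']
  have fσ : ∀ z ∈ dL p d, σ₁ z = z := fun z hz => cyc3_apply_of_ne (fun e => inr_notMem_dL 0 (e ▸ hz))
    (fun e => inr_notMem_dL 1 (e ▸ hz)) (fun e => qmem (e ▸ hz))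
  have fω : ∀ z ∈ dL p d, ω z = z := fun z hz => by
    have e1 : Equiv.swap v q' z = z :=
      Equiv.swap_apply_of_ne_of_ne (fun e => inr_notMem_dL 1 (e ▸ hz)) (fun e => q'mem (e ▸ hz))
    have e2 : Equiv.swap u q z = z :=
      Equiv.swap_apply_of_ne_of_ne (fun e => inr_notMem_dL 0 (e ▸ hz)) (fun e => qmem (e ▸ hz))
    simp only [ω, Perm.mul_apply, e1, e2]
  have yσ := E.y_acts mσ fσ
  rw [cσ] at yσ
  have yω := E.y_acts mω fω
  rw [cω] at yω
  set S₁ := E.D.ev E.hp σ₁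
  set A₁ := E.D.ev E.hp α₀
  set B₁ := E.y * E.D.ev E.hp β₀ * E.y⁻¹
  set O₁ := E.D.ev E.hp ω
  have ei : E.D.xs i = A₁ * S₁ := by
    rw [← E.D.ev_star E.hp, ← E.D.ev_mul E.hp mα mσ]
    exact congrArg _ (star_left hIu hIv hIq huv huq hvq)
  have ej : E.y * E.D.xs j * E.y⁻¹ = S₁⁻¹ * B₁ * O₁ := by
    rw [← E.D.ev_star E.hp, show star3 (ZMod p) j = σ₁⁻¹ * β₀ * ω from
      star_right hJu hJv hJq hJq' huv huq huq' hvq hvq' hqq',
      E.D.ev_mul E.hp (mul_mem (inv_mem mσ) mβ) mω, E.D.ev_mul E.hp (inv_mem mσ) mβ, E.D.ev_inv E.hp mσ]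
    calc E.y * (S₁⁻¹ * E.D.ev E.hp β₀ * O₁) * E.y⁻¹ = (E.y * S₁ * E.y⁻¹)⁻¹ * B₁ * (E.y * O₁ * E.y⁻¹) := by
          simp only [B₁]; group
      _ = _ := by rw [yσ, yω]
  have hAB : Commute A₁ B₁ := E.beta_comm hi hj
  have oA : O₁ * A₁ = A₁⁻¹ * O₁ := by
    rw [← E.D.ev_inv E.hp mα, ← E.D.ev_mul E.hp mω mα, ← E.D.ev_mul E.hp (inv_mem mα) mω]
    congr 1
    rw [← mul_inv_eq_iff_eq_mul, cyc3_conj, cyc3_inv hIu hIq huq]
    simp [ω, Equiv.swap_apply_of_ne_of_ne, hIu, hIv, hIq, hIq', huv, huq', hvq.symm, hqq', huq.symm]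
  have oB : O₁ * B₁ = B₁⁻¹ * O₁ := by
    have e : ω * β₀ = β₀⁻¹ * ω := by
      rw [← mul_inv_eq_iff_eq_mul, cyc3_conj, cyc3_inv hJv hJq' hvq']
      simp [ω, Equiv.swap_apply_of_ne_of_ne, hJu, hJv, hJq, hJq', huv.symm, hvq, huq'.symm, hqq'.symm, hvq'.symm]
    calc O₁ * B₁ = (E.y * O₁ * E.y⁻¹) * B₁ := by rw [yω]
      _ = E.y * E.D.ev E.hp (ω * β₀) * E.y⁻¹ := by rw [E.D.ev_mul E.hp mω mβ]; simp only [B₁, O₁]; group
      _ = B₁⁻¹ * (E.y * O₁ * E.y⁻¹) := by
          rw [e, E.D.ev_mul E.hp (inv_mem mβ) mω, E.D.ev_inv E.hp mβ]; simp only [B₁, O₁]; group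
      _ = _ := by rw [yω]
  have oo : O₁ * O₁ = 1 := by
    rw [← E.D.ev_mul E.hp mω mω]
    have : ω * ω = 1 := by
      ext z
      rcases eq_or_ne z u with rfl | h1
      · simp [ω, Equiv.swap_apply_of_ne_of_ne, huv, huq', hvq.symm, hqq']
      rcases eq_or_ne z q with rfl | h2
      · simp [ω, Equiv.swap_apply_of_ne_of_ne, huv, huq', hvq.symm, hqq']
      rcases eq_or_ne z v with rfl | h3
      · simp [ω, Equiv.swap_apply_of_ne_of_ne, huv.symm, hvq, huq'.symm, hqq'.symm]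
      rcases eq_or_ne z q' with rfl | h4
      · simp [ω, Equiv.swap_apply_of_ne_of_ne, huv.symm, hvq, huq'.symm, hqq'.symm]
      simp [ω, Equiv.swap_apply_of_ne_of_ne, h1, h2, h3, h4]
    rw [this, E.D.ev_one E.hp]
  rw [ei, ej]
  calc (A₁ * S₁ * (S₁⁻¹ * B₁ * O₁)) ^ 2 = A₁ * B₁ * (O₁ * A₁) * B₁ * O₁ := by rw [sq]; group
    _ = A₁ * B₁ * A₁⁻¹ * (O₁ * B₁) * O₁ := by rw [oA]; group
    _ = A₁ * B₁ * A₁⁻¹ * B₁⁻¹ * (O₁ * O₁) := by rw [oB]; group
    _ = 1 := by rw [oo, hAB.eq]; group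

theorem xs_far {i : ZMod p} (hi : Sum.inl i ∉ dL p d) :
    ∃ k : ZMod p, Sum.inl k ∉ dL p d ∧ E.D.xs i = E.y * E.D.xs k * E.y⁻¹ := by
  obtain ⟨k, hk⟩ : ∃ k : ZMod p, permPi p d (Sum.inl i) = Sum.inl k := by
    rcases hπ : permPi p d (Sum.inl i) with k | k
    · exact ⟨k, rfl⟩
    · have := congrArg (permPi p d) hπ
      rw [permPi_apply_apply E.hd, permPi_inr] at this
      cases this
  have hk' : Sum.inl k ∉ dL p d := fun h => hi ((permPi_mem_dL E.hd E.hp).1 (hk ▸ h))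
  refine ⟨k, hk', ?_⟩
  rw [← E.D.ev_star E.hp k, E.y_acts (star3_mem k) fun z hz => cyc3_apply_of_ne (fun e => hk' (e ▸ hz))
    (fun e => inr_notMem_dL 0 (e ▸ hz)) (fun e => inr_notMem_dL 1 (e ▸ hz)), ← E.D.ev_star E.hp i]
  congr 1
  nth_rw 2 [← permPi_inv E.hd]
  rw [star3, star3, cyc3_conj, permPi_inr, permPi_inr, ← hk, permPi_apply_apply E.hd]

theorem isCarmichael : IsCarmichael E.xx := by
  have h := E.D.isCarmichael E.hp
  have hinj : ∀ {i j : Fin d}, ((((i : ℕ) + 1 : ℕ)) : ZMod p) = (((j : ℕ) + 1 : ℕ) : ZMod p) → i = j := by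
    intro i j e
    have := E.hd
    have := pt_inj (p := p) (i := (i : ℕ) + 1) (j := (j : ℕ) + 1) (by omega) (by omega)
      (congrArg (fun z : ZMod p => (Sum.inl z : Pt p)) e)
    exact Fin.ext (by omega)
  have hsymm : ∀ {a b : G}, (a * b) ^ 2 = 1 → (b * a) ^ 2 = 1 := fun {a b} e => by
    rw [show (b * a) ^ 2 = b * (a * b) ^ 2 * b⁻¹ by simp only [sq]; group, e]; group
  have mix : ∀ (i : ZMod p) (j : Fin d), (E.xx (.inl i) * E.xx (.inr j)) ^ 2 = 1 := by
    intro i j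
    have hj : (Sum.inl ((((j : ℕ) + 1 : ℕ)) : ZMod p) : Pt p) ∈ dL p d := mem_dL.2 ⟨j, j.2, rfl⟩
    simp only [xx, Sum.elim_inl, Sum.elim_inr]
    by_cases hi : Sum.inl i ∈ dL p d
    · exact E.pair_far hi hj
    · obtain ⟨k, hk, e⟩ := E.xs_far hi
      have hne : k ≠ ((((j : ℕ) + 1 : ℕ)) : ZMod p) := fun e => hk (e ▸ hj)
      rw [e, ← MulAut.conj_apply, ← MulAut.conj_apply, ← map_mul, ← map_pow, h.pair _ _ hne, map_one]
  refine ⟨fun i => ?_, fun i j hij => ?_⟩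
  · rcases i with i | i
    · exact h.cube i
    · simp only [xx, Sum.elim_inr]
      rw [conj_pow, h.cube, mul_one, mul_inv_cancel]
  · rcases i with i | i <;> rcases j with j | j
    · exact h.pair i j fun e => hij (congrArg _ e)
    · exact mix i j
    · exact hsymm (mix j i)
    · simp only [xx, Sum.elim_inr]
      rw [← MulAut.conj_apply, ← MulAut.conj_apply, ← map_mul, ← map_pow,
        h.pair _ _ fun e => hij (congrArg _ (hinj e)), map_one]

theorem bound (hy : E.y ∈ Subgroup.closure (Set.range E.xx))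
    (hgen : Subgroup.closure {E.D.a, E.D.b, E.D.x, E.y} = ⊤) :
    Finite G ∧ 2 * Nat.card G ≤ E.D.e * (p + d + 2).factorial := by
  set K := Subgroup.closure (Set.range E.xx) with hK
  obtain ⟨hfin, hcard⟩ := E.isCarmichael.card_le Finset.univ
  rw [Finset.coe_univ, Set.image_univ, ← hK] at hfin hcard
  rw [Finset.card_univ, Fintype.card_sum, ZMod.card, Fintype.card_fin] at hcard
  have : Finite K := hfin.to_subtype
  have hxs : ∀ i, E.D.xs i ∈ K := fun i => Subgroup.subset_closure ⟨.inl i, rfl⟩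
  have hev : ∀ σ, E.D.ev E.hp σ ∈ K := fun σ =>
    (Subgroup.closure_le K).2 (Set.range_subset_iff.2 hxs) (E.D.ev_mem E.hp σ)
  have hby : E.D.b * E.y * E.D.b⁻¹ ∈ K := by
    have h1 : E.D.b * E.y⁻¹ * E.D.b⁻¹ = (E.D.ev E.hp (permR p d E.D.e * (permB p E.D.g E.D.e)⁻¹))⁻¹ * E.y⁻¹ *
        E.D.ev E.hp (permPi p d * permR p d E.D.e * permPi p d * (permB p E.D.g E.D.e)⁻¹) := by
      rw [eq_comm, mul_assoc, inv_mul_eq_iff_eq_mul, inv_mul_eq_iff_eq_mul,
        eq_mul_inv_iff_mul_eq.2 E.hR.symm]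
      group
    rw [show E.D.b * E.y * E.D.b⁻¹ = (E.D.b * E.y⁻¹ * E.D.b⁻¹)⁻¹ by group, h1]
    exact inv_mem (mul_mem (mul_mem (inv_mem (hev _)) (inv_mem hy)) (hev _))
  have hbx : ∀ i, E.D.b * E.D.xs i * E.D.b⁻¹ ∈ K := fun i => by
    have := E.D.b_pow_xs 1 i
    simp only [pow_one] at this
    rw [this]; exact pow_mem (hxs _) _
  obtain ⟨h1, h2⟩ := card_le_of_extension (K := K) E.he (E.b_pow_e ▸ hev _)
    (closure_conj_le fun s hs => by
      obtain ⟨i | i, rfl⟩ := hs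
      · exact hbx i
      · simp only [xx, Sum.elim_inr]
        rw [show ∀ z : G, E.D.b * (E.y * z * E.y⁻¹) * E.D.b⁻¹ =
          E.D.b * E.y * E.D.b⁻¹ * (E.D.b * z * E.D.b⁻¹) * (E.D.b * E.y * E.D.b⁻¹)⁻¹ from fun z => by group]
        exact mul_mem (mul_mem hby (hbx _)) (inv_mem hby)) hgen
    (fun s hs => by
      rcases hs with rfl | rfl | rfl | rfl
      · exact Or.inl ((Subgroup.closure_le K).2 (Set.range_subset_iff.2 hxs)
          (E.D.a_mem E.hp E.he (E.D.permB_pow_mem E.hp E.he) E.b_pow_e))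
      · exact Or.inr rfl
      · exact Or.inl (E.D.xs_zero ▸ hxs 0)
      · exact Or.inl hy)
  exact ⟨h1, le_trans (Nat.mul_le_mul_left 2 h2) (by rw [mul_left_comm]; exact Nat.mul_le_mul_left _ hcard)⟩

end Rels

end CfsgLib.BoundedAlt
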