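import Cfsg.Agent.BoundedAlt.Tools

/-!
# The Carmichael presentation: `x i ↦ (i, u, v)`
-/

set_option autoImplicit false

namespace CfsgLib.BoundedAlt

open Equiv Equiv.Perm

variable {G : Type*} [Group G] {ι : Type*}

/-- Carmichael's relations. -/
structure IsCarmichael (x : ι → G) : Prop where
  cube : ∀ i, x i ^ 3 = 1
  pair : ∀ i j, i ≠ j → (x i * x j) ^ 2 = 1

namespace IsCarmichael

variable {x : ι → G}

theorem inv_eq (h : IsCarmichael x) (i : ι) : (x i)⁻¹ = x i * x i :=
  inv_eq_of_mul_eq_one_right (by rw [← mul_assoc, ← pow_three', h.cube])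

theorem swp (h : IsCarmichael x) {i j : ι} (hij : i ≠ j) : x i * x j = (x j)⁻¹ * (x i)⁻¹ := by
  rw [← mul_inv_rev]
  apply eq_inv_of_mul_eq_one_left
  rw [← sq]; exact h.pair i j hij

theorem sq_inv (h : IsCarmichael x) (i : ι) : (x i)⁻¹ * (x i)⁻¹ = x i := by
  rw [← mul_inv_rev, ← h.inv_eq, inv_inv]

theorem conj_eq (h : IsCarmichael x) {i j : ι} (hij : i ≠ j) : x i * x j * (x i)⁻¹ = (x j)⁻¹ * x i := by
  rw [h.swp hij, mul_assoc, h.sq_inv]

theorem card_le [DecidableEq ι] (h : IsCarmichael x) (s : Finset ι) :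
    (Subgroup.closure (x '' (s : Set ι)) : Set G).Finite ∧
      2 * Nat.card (Subgroup.closure (x '' (s : Set ι))) ≤ (s.card + 2).factorial := by
  induction s using Finset.induction_on with
  | empty => simp
  | insert l s hl ih =>
    obtain ⟨hfin, hcard⟩ := ih
    set H := Subgroup.closure (x '' (s : Set ι))
    have hx : ∀ i ∈ s, x i ∈ H := fun i hi => Subgroup.subset_closure ⟨i, hi, rfl⟩
    have hne : ∀ i ∈ s, i ≠ l := fun i hi e => hl (e ▸ hi)
    have : Finite H := hfin.to_subtype
    let rep : Fin 3 ⊕ s → G := Sum.elim ![1, x l, (x l)⁻¹] (fun i => (x i)⁻¹ * x l)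
    let f : (Fin 3 ⊕ s) × H → G := fun p => rep p.1 * p.2
    have r0 : ∀ p ∈ H, p ∈ Set.range f := fun p hp => ⟨(.inl 0, ⟨p, hp⟩), by simp [f, rep]⟩
    have r1 : ∀ p ∈ H, x l * p ∈ Set.range f := fun p hp => ⟨(.inl 1, ⟨p, hp⟩), by simp [f, rep]⟩
    have r2 : ∀ p ∈ H, (x l)⁻¹ * p ∈ Set.range f := fun p hp => ⟨(.inl 2, ⟨p, hp⟩), by simp [f, rep]⟩
    have r3 : ∀ i ∈ s, ∀ p ∈ H, (x i)⁻¹ * x l * p ∈ Set.range f := fun i hi p hp =>
      ⟨(.inr ⟨i, hi⟩, ⟨p, hp⟩), by simp [f, rep]⟩
    have step : ∀ j ∈ insert l s, ∀ g ∈ Set.range f, x j * g ∈ Set.range f := by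
      rintro j hj _ ⟨⟨k | ⟨i, hi⟩, ⟨p, hp⟩⟩, rfl⟩
      · rcases Finset.mem_insert.1 hj with rfl | hj
        · fin_cases k
          · simpa [f, rep] using r1 p hp
          · show x j * (x j * p) ∈ Set.range f
            rw [← mul_assoc, ← h.inv_eq]; exact r2 p hp
          · show x j * ((x j)⁻¹ * p) ∈ Set.range f
            rw [mul_inv_cancel_left]; exact r0 p hp
        · have hjl := hne j hj
          fin_cases k
          · simpa [f, rep] using r0 _ (mul_mem (hx j hj) hp)
          · show x j * (x l * p) ∈ Set.range f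
            rw [← mul_assoc, h.swp hjl, mul_assoc]
            exact r2 _ (mul_mem (inv_mem (hx j hj)) hp)
          · show x j * ((x l)⁻¹ * p) ∈ Set.range f
            have e : x j * (x l)⁻¹ = (x j)⁻¹ * x l * x j := by
              rw [mul_assoc, h.swp hjl.symm, ← mul_assoc, h.sq_inv]
            rw [← mul_assoc, e, mul_assoc _ (x j) p]
            exact r3 j hj _ (mul_mem (hx j hj) hp)
      · rcases Finset.mem_insert.1 hj with rfl | hj
        · show x j * ((x i)⁻¹ * x j * p) ∈ Set.range f
          have hil := hne i hi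
          have e : x j * ((x i)⁻¹ * x j) = (x i)⁻¹ * x j * (x i)⁻¹ := by
            calc x j * ((x i)⁻¹ * x j) = (x i)⁻¹ * x j * ((x j)⁻¹ * (x i * x j * (x i)⁻¹) * x j) := by group
              _ = (x i)⁻¹ * x j * (((x j)⁻¹ * (x j)⁻¹) * (x i * x j)) := by rw [h.conj_eq hil]; group
              _ = (x i)⁻¹ * x j * (x j * x i * x j) := by rw [h.sq_inv]; group
              _ = _ := by rw [h.swp hil.symm]; group
          rw [← mul_assoc, e, mul_assoc _ _ p]
          exact r3 i hi _ (mul_mem (inv_mem (hx i hi)) hp)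
        · show x j * ((x i)⁻¹ * x l * p) ∈ Set.range f
          by_cases hij : j = i
          · subst hij
            rw [← mul_assoc, mul_inv_cancel_left]; exact r1 p hp
          · have hil := hne i hi
            have hjl := hne j hj
            have e : x j * ((x i)⁻¹ * x l) = (x i)⁻¹ * x l * (x j * (x i)⁻¹) := by
              calc x j * ((x i)⁻¹ * x l) = (x i)⁻¹ * x l * ((x l)⁻¹ * (x i * x j * (x i)⁻¹) * x l) := by group
                _ = (x i)⁻¹ * x l * (((x l)⁻¹ * (x j)⁻¹) * (x i * x l)) := by rw [h.conj_eq (Ne.symm hij)]; group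
                _ = (x i)⁻¹ * x l * ((x j * x l) * ((x l)⁻¹ * (x i)⁻¹)) := by rw [← h.swp hjl, ← h.swp hil]
                _ = _ := by group
            rw [← mul_assoc, e, mul_assoc _ _ p]
            exact r3 i hi _ (mul_mem (mul_mem (hx j hj) (inv_mem (hx i hi))) hp)
    have hinv : ∀ j ∈ insert l s, ∀ g ∈ Set.range f, (x j)⁻¹ * g ∈ Set.range f := fun j hj g hg => by
      rw [h.inv_eq, mul_assoc]; exact step j hj _ (step j hj g hg)
    have hsub : (Subgroup.closure (x '' ((insert l s : Finset ι) : Set ι)) : Set G) ⊆ Set.range f := by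
      intro g hg
      induction hg using Subgroup.closure_induction_left with
      | one => exact r0 1 (one_mem _)
      | mul_left a ha b _ ihb =>
        obtain ⟨j, hj, rfl⟩ := ha
        exact step j hj b ihb
      | inv_mul_cancel a ha b _ ihb =>
        obtain ⟨j, hj, rfl⟩ := ha
        exact hinv j hj b ihb
    refine ⟨(Set.finite_range f).subset hsub, ?_⟩
    have hle : Nat.card (Subgroup.closure (x '' ((insert l s : Finset ι) : Set ι))) ≤ (s.card + 3) * Nat.card H := by
      refine le_trans (Nat.card_mono (Set.finite_range f) hsub) ((Finite.card_range_le f).trans (le_of_eq ?_))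
      rw [Nat.card_prod, Nat.card_sum, Nat.card_eq_fintype_card, Nat.card_eq_fintype_card, Fintype.card_fin,
        Fintype.card_coe, add_comm 3]
    rw [Finset.card_insert_of_notMem hl, show s.card + 1 + 2 = (s.card + 2) + 1 by ring, Nat.factorial_succ]
    calc 2 * Nat.card _ ≤ 2 * ((s.card + 3) * Nat.card H) := Nat.mul_le_mul_left _ hle
      _ = (s.card + 3) * (2 * Nat.card H) := by ring
      _ ≤ _ := Nat.mul_le_mul_left _ hcard

end IsCarmichael

variable (ι) [DecidableEq ι]

/-- The three-cycle `(i, u, v)`. -/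
def star3 (i : ι) : Perm (ι ⊕ Fin 2) := cyc3 (Sum.inl i) (Sum.inr 0) (Sum.inr 1)

variable {ι}

theorem star3_mem [Fintype ι] (i : ι) : star3 ι i ∈ alternatingGroup (ι ⊕ Fin 2) := by
  rw [Equiv.Perm.mem_alternatingGroup]
  exact sign_cyc3 _ _ _ Sum.inl_ne_inr (by simp)

theorem isCarmichael_star3 : IsCarmichael (star3 ι) := by
  constructor
  · intro i
    ext z
    simp only [star3, pow_three', Perm.mul_apply, Perm.one_apply]
    rcases z with j | j
    · by_cases h : j = i
      · subst h
        rw [cyc3_apply₁ Sum.inl_ne_inr Sum.inl_ne_inr, cyc3_apply₂ Sum.inl_ne_inr (by simp), cyc3_apply₃]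
      · rw [cyc3_apply_of_ne (by simpa using h) Sum.inl_ne_inr Sum.inl_ne_inr,
          cyc3_apply_of_ne (by simpa using h) Sum.inl_ne_inr Sum.inl_ne_inr,
          cyc3_apply_of_ne (by simpa using h) Sum.inl_ne_inr Sum.inl_ne_inr]
    · fin_cases j
      · simp [cyc3, Equiv.swap_apply_of_ne_of_ne]
      · simp [cyc3, Equiv.swap_apply_of_ne_of_ne]
  · intro i j hij
    ext z
    simp only [star3, sq, Perm.mul_apply, Perm.one_apply]
    rcases z with k | k
    · by_cases h : k = i
      · subst h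
        simp [cyc3, Equiv.swap_apply_of_ne_of_ne, hij, Ne.symm hij]
      · by_cases h' : k = j
        · subst h'
          simp [cyc3, Equiv.swap_apply_of_ne_of_ne, hij, Ne.symm hij]
        · simp [cyc3, Equiv.swap_apply_of_ne_of_ne, h, h']
    · fin_cases k <;> simp [cyc3, Equiv.swap_apply_of_ne_of_ne, hij, Ne.symm hij]

theorem alternating_le_of_star3 [Fintype ι] {M : Subgroup (Perm (ι ⊕ Fin 2))} (h : ∀ i, star3 ι i ∈ M) :
    alternatingGroup (ι ⊕ Fin 2) ≤ M := by
  refine alternating_le_of_rich (rich_of_star (u := Sum.inr 0) (v := Sum.inr 1) (by simp) trivial trivial ?_)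
  rintro (i | i) _ hu hv
  · exact h i
  · fin_cases i
    · exact absurd rfl hu
    · exact absurd rfl hv

/-- The universal property: Carmichael elements define a map from the alternating group. -/
theorem IsCarmichael.exists_hom [Fintype ι] [Nonempty ι] {x : ι → G} (h : IsCarmichael x) :
    ∃ ψ : alternatingGroup (ι ⊕ Fin 2) →* G, ∀ i, ψ ⟨star3 ι i, star3_mem i⟩ = x i := by
  classical
  let rels : Set (FreeGroup ι) := Set.range (fun i => FreeGroup.of i ^ 3) ∪
    {r | ∃ i j, i ≠ j ∧ r = (FreeGroup.of i * FreeGroup.of j) ^ 2}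
  have hP : IsCarmichael (fun i => (PresentedGroup.of i : PresentedGroup rels)) :=
    ⟨fun i => PresentedGroup.one_of_mem (x := FreeGroup.of i ^ 3) (Or.inl ⟨i, rfl⟩),
      fun i j hij => PresentedGroup.one_of_mem (x := (FreeGroup.of i * FreeGroup.of j) ^ 2) (Or.inr ⟨i, j, hij, rfl⟩)⟩
  have lift_ok : ∀ {K : Type _} [Group K] {y : ι → K}, IsCarmichael y → ∀ r ∈ rels, FreeGroup.lift y r = 1 := by
    intro K _ y hy
    rintro r (⟨i, rfl⟩ | ⟨i, j, hij, rfl⟩)
    · simpa using hy.cube i
    · simpa using hy.pair i j hij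
  let s : ι → alternatingGroup (ι ⊕ Fin 2) := fun i => ⟨star3 ι i, star3_mem i⟩
  have hs : IsCarmichael s :=
    ⟨fun i => Subtype.ext (by simpa [s] using isCarmichael_star3.cube i),
      fun i j hij => Subtype.ext (by simpa [s] using isCarmichael_star3.pair i j hij)⟩
  let π := PresentedGroup.toGroup (lift_ok hs)
  have hπ : ∀ i, π (PresentedGroup.of i) = s i := fun i => PresentedGroup.toGroup.of _
  have hsurj : Function.Surjective π := by
    rw [← MonoidHom.range_eq_top, eq_top_iff]
    intro σ _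
    have := alternating_le_of_star3 (M := π.range.map (alternatingGroup (ι ⊕ Fin 2)).subtype)
      (fun i => ⟨s i, ⟨_, hπ i⟩, rfl⟩) σ.2
    obtain ⟨τ, hτ, e⟩ := this
    rwa [Subtype.ext e] at hτ
  obtain ⟨hfin, hcard⟩ := hP.card_le Finset.univ
  have htop : Subgroup.closure ((fun i => (PresentedGroup.of i : PresentedGroup rels)) '' ((Finset.univ : Finset ι) : Set ι)) = ⊤ := by
    rw [Finset.coe_univ, Set.image_univ]; exact PresentedGroup.closure_range_of rels
  rw [htop] at hfin hcard
  have : Finite (PresentedGroup rels) := Set.finite_univ_iff.1 (by simpa using hfin)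
  have : Nontrivial (ι ⊕ Fin 2) := ⟨⟨Sum.inr 0, Sum.inr 1, by simp⟩⟩
  have hA : 2 * Nat.card (alternatingGroup (ι ⊕ Fin 2)) = (Fintype.card ι + 2).factorial := by
    rw [Nat.card_eq_fintype_card, two_mul_card_alternatingGroup, Fintype.card_perm, Fintype.card_sum, Fintype.card_fin]
  rw [Subgroup.card_top, Finset.card_univ] at hcard
  have hb : Function.Bijective π := (Nat.bijective_iff_surjective_and_card π).2
    ⟨hsurj, le_antisymm (by omega) (Nat.card_le_card_of_surjective π hsurj)⟩
  have hx : ∀ r ∈ rels, FreeGroup.lift x r = 1 := by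
    rintro r (⟨i, rfl⟩ | ⟨i, j, hij, rfl⟩)
    · simpa using h.cube i
    · simpa using h.pair i j hij
  refine ⟨(PresentedGroup.toGroup hx).comp (MulEquiv.ofBijective π hb).symm.toMonoidHom, fun i => ?_⟩
  have e : (MulEquiv.ofBijective π hb).symm (s i) = PresentedGroup.of i := by
    rw [MulEquiv.symm_apply_eq]; exact (hπ i).symm
  simp only [MonoidHom.comp_apply, MulEquiv.coe_toMonoidHom]
  rw [show (⟨star3 ι i, star3_mem i⟩ : alternatingGroup (ι ⊕ Fin 2)) = s i from rfl, e, PresentedGroup.toGroup.of]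

end CfsgLib.BoundedAlt
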