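import Cfsg.Agent.BoundedAlt.Perms

/-!
# The even or all permutations, by `e = 1` or `e = 2`
-/

set_option autoImplicit false

namespace CfsgLib.BoundedAlt

open Equiv Equiv.Perm

variable {α : Type*} [Fintype α] [DecidableEq α]

/-- The alternating group for `e = 1`, the symmetric group otherwise. -/
def tgt (α : Type*) [Fintype α] [DecidableEq α] (e : ℕ) : Subgroup (Perm α) :=
  if e = 1 then alternatingGroup α else ⊤

theorem mem_tgt_of_sign {e : ℕ} (he : e = 1 ∨ e = 2) {σ : Perm α} (h : Perm.sign σ = (-1) ^ (e + 1)) :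
    σ ∈ tgt α e := by
  rcases he with rfl | rfl
  · rw [tgt, if_pos rfl, Equiv.Perm.mem_alternatingGroup, h]; simp
  · rw [tgt, if_neg (by omega)]; trivial

theorem alt_le_tgt (e : ℕ) : alternatingGroup α ≤ tgt α e := by
  unfold tgt
  split_ifs
  · exact le_rfl
  · exact le_top

theorem tgt_eq_of_sign {e : ℕ} (he : e = 1 ∨ e = 2) {M : Subgroup (Perm α)} (hM : M ≤ tgt α e)
    (hA : alternatingGroup α ≤ M) {b : Perm α} (hb : b ∈ M) (hs : Perm.sign b = (-1) ^ (e + 1)) :
    M = tgt α e := by
  refine le_antisymm hM fun σ hσ => ?_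
  rcases he with rfl | rfl
  · rw [tgt, if_pos rfl] at hσ; exact hA hσ
  · rcases Int.units_eq_one_or (Perm.sign σ) with h | h
    · exact hA (Equiv.Perm.mem_alternatingGroup.2 h)
    · have := mul_mem (hA (show σ * b ∈ alternatingGroup α by
        rw [Equiv.Perm.mem_alternatingGroup, map_mul, h, hs]; decide)) (inv_mem hb)
      rwa [mul_inv_cancel_right] at this

theorem card_tgt [Nontrivial α] {e : ℕ} (he : e = 1 ∨ e = 2) :
    2 * Nat.card (tgt α e) = e * (Fintype.card α).factorial := by
  rcases he with rfl | rfl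
  · rw [tgt, if_pos rfl, Nat.card_eq_fintype_card, two_mul_card_alternatingGroup, Fintype.card_perm, one_mul]
  · rw [tgt, if_neg (by omega), Subgroup.card_top, Nat.card_eq_fintype_card, Fintype.card_perm]

/-- A long cycle completes a cyclic group containing a three-cycle to a generating pair. -/
theorem exists_pair {e : ℕ} (he : e = 1 ∨ e = 2) {u v q : α} (huv : u ≠ v) (huq : u ≠ q) (hvq : v ≠ q)
    {h : Perm α} (hh : h ∈ tgt α e) (hx : cyc3 q u v ∈ Subgroup.zpowers h) :
    ∃ t, Subgroup.closure {h, t} = tgt α e := by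
  classical
  set l := ((Finset.univ : Finset α) \ {u, v, q}).toList
  have hl : (v :: u :: q :: l).Nodup := by
    simp [List.nodup_cons, l, Finset.nodup_toList, huv.symm, huq, hvq]
  set t := longCycle u v q l (e + l.length)
  have ht : Perm.sign t = (-1) ^ (e + 1) := by
    rw [sign_longCycle hl, show e + l.length + l.length + 1 = e + 1 + 2 * l.length by ring, pow_add, pow_mul]
    simp
  set M := Subgroup.closure ({h, t} : Set (Perm α))
  have hM1 : h ∈ M := Subgroup.subset_closure (by simp)
  have hM2 : t ∈ M := Subgroup.subset_closure (by simp)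
  refine ⟨t, tgt_eq_of_sign he ((Subgroup.closure_le _).2 ?_) ?_ hM2 ht⟩
  · rintro z (rfl | rfl)
    · exact hh
    · exact mem_tgt_of_sign he ht
  · refine alternating_le_of_rich ((rich_longCycle hl _ (M := M) ?_ fun m hm =>
      mul_mem (mul_mem hM2 hm) (inv_mem hM2)).mono fun z _ => ?_)
    · exact (Subgroup.zpowers_le.2 hM1) hx
    · simp only [Set.mem_ofPred_eq, List.mem_cons, l, Finset.mem_toList, Finset.mem_sdiff, Finset.mem_univ,
        true_and, Finset.mem_insert, Finset.mem_singleton]
      tauto

end CfsgLib.BoundedAlt
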