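import Cfsg.Agent.BoundedAlt.Bound
import Cfsg.Agent.BoundedAlt.Target

/-!
# The target permutations
-/

set_option autoImplicit false

namespace CfsgLib.BoundedAlt

open Equiv Equiv.Perm

/-- All `p + d + 2` points. -/
abbrev Big (p d : ℕ) : Type := (ZMod p ⊕ Fin d) ⊕ Fin 2

variable (p d : ℕ)

/-- The first `p + 2` points. -/
def jX : Pt p → Big p d := Sum.map Sum.inl id

/-- Reassociation. -/
def bigEquiv : Pt p ⊕ Fin d ≃ Big p d where
  toFun := Sum.elim (jX p d) fun i => Sum.inl (Sum.inr i)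
  invFun := Sum.elim (Sum.elim (fun z => Sum.inl (Sum.inl z)) Sum.inr) fun k => Sum.inl (Sum.inr k)
  left_inv := by rintro ((z | k) | i) <;> rfl
  right_inv := by rintro ((z | i) | k) <;> rfl

/-- Extension to all points. -/
def emb : Perm (Pt p) →* Perm (Big p d) :=
  ((bigEquiv p d).permCongrHom.toMonoidHom).comp
    ((Equiv.Perm.sumCongrHom (Pt p) (Fin d)).comp (MonoidHom.inl _ _))

/-- The involution exchanging `i + 1` with the new point `i`, times `π`. -/
def yT : Perm (Big p d) :=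
  emb p d (permPi p d) *
    swapAlong (fun i : Fin d => jX p d (pt p (i + 1))) (fun i => Sum.inl (Sum.inr i)) (List.finRange d)

variable {p d}

theorem jX_injective : Function.Injective (jX p d) := Sum.inl_injective.sumMap Function.injective_id

@[simp] theorem emb_jX (σ : Perm (Pt p)) (z : Pt p) : emb p d σ (jX p d z) = jX p d (σ z) := by
  rcases z with z | k <;> rfl

@[simp] theorem emb_new (σ : Perm (Pt p)) (i : Fin d) : emb p d σ (Sum.inl (Sum.inr i)) = Sum.inl (Sum.inr i) := rfl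

theorem jX_ne_new (z : Pt p) (i : Fin d) : jX p d z ≠ Sum.inl (Sum.inr i) := by rcases z with z | k <;> simp [jX]

theorem big_cases (w : Big p d) : (∃ z, jX p d z = w) ∨ ∃ i, Sum.inl (Sum.inr i) = w := by
  rcases w with (z | i) | k
  · exact Or.inl ⟨Sum.inl z, rfl⟩
  · exact Or.inr ⟨i, rfl⟩
  · exact Or.inl ⟨Sum.inr k, rfl⟩

theorem emb_cyc3 [Fact p.Prime] (a b c : Pt p) :
    emb p d (cyc3 a b c) = cyc3 (jX p d a) (jX p d b) (jX p d c) := by
  have h : ∀ a b : Pt p, emb p d (Equiv.swap a b) = Equiv.swap (jX p d a) (jX p d b) := by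
    intro a b
    ext w
    rcases big_cases w with ⟨z, rfl⟩ | ⟨i, rfl⟩
    · rw [emb_jX, jX_injective.swap_apply]
    · rw [emb_new, Equiv.swap_apply_of_ne_of_ne (jX_ne_new a i).symm (jX_ne_new b i).symm]
  rw [cyc3, map_mul, h, h]; rfl

theorem sign_emb [Fact p.Prime] (σ : Perm (Pt p)) : Perm.sign (emb p d σ) = Perm.sign σ := by
  show Perm.sign ((bigEquiv p d).permCongr (Equiv.Perm.sumCongr σ 1)) = _
  rw [Perm.sign_permCongr, Perm.sign_sumCongr, map_one, mul_one]

section Seed

variable [Fact p.Prime]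

theorem permA_pow_apply (n : ℕ) (z : Pt p) : (permA p ^ n) z = Sum.map (fun w => (n : ZMod p) + w) id z := by
  induction n with
  | zero => rcases z with w | k <;> simp
  | succ n ih => rw [pow_succ', Perm.mul_apply, ih]; rcases z with w | k <;> simp [permA] <;> ring

theorem permA_pow : permA p ^ p = 1 := by
  ext z
  rw [permA_pow_apply, Perm.one_apply]
  rcases z with w | k <;> simp

theorem permA_pow_star (n : ℕ) :
    permA p ^ n * star3 (ZMod p) 0 * (permA p ^ n)⁻¹ = star3 (ZMod p) (n : ZMod p) := by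
  rw [star3, cyc3_conj, permA_pow_apply, permA_pow_apply, permA_pow_apply]
  simp [star3]

theorem permB_pow (g : (ZMod p)ˣ) (e : ℕ) (hp : 5 ≤ p) : permB p g e ^ (p - 1) = 1 := by
  have h : ∀ n : ℕ, permB p g e ^ n = Equiv.sumCongr (g.mulLeft ^ n) ((Equiv.swap 0 1 ^ e) ^ n) := by
    intro n
    induction n with
    | zero => ext z; rcases z with w | k <;> simp
    | succ n ih => ext z; rw [pow_succ', Perm.mul_apply, ih]; rcases z with w | k <;> simp [permB, pow_succ']
  have hg : g.mulLeft ^ (p - 1) = (1 : Perm (ZMod p)) := by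
    ext w
    have : ∀ n : ℕ, (g.mulLeft ^ n) w = (g : ZMod p) ^ n * w := by
      intro n
      induction n with
      | zero => simp
      | succ n ih => rw [pow_succ', Perm.mul_apply, ih, pow_succ', mul_assoc]; rfl
    rw [this, ZMod.pow_card_sub_one_eq_one g.ne_zero, one_mul, Perm.one_apply]
  have hs : (Equiv.swap (0 : Fin 2) 1 ^ e) ^ (p - 1) = 1 := by
    obtain ⟨k, hk⟩ : 2 ∣ p - 1 := by
      rcases (Fact.out : p.Prime).eq_two_or_odd with h | h <;> omega
    rw [hk, ← pow_mul, mul_left_comm, pow_mul, sq, Equiv.swap_mul_self, one_pow]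
  rw [h, hg, hs]
  ext z; rcases z with w | k <;> simp

theorem permB_permA (g : (ZMod p)ˣ) (e s : ℕ) (hs : (g : ZMod p) * ((s : ZMod p) + 1) = (s : ZMod p)) :
    permB p g e * permA p ^ (s + 1) * (permB p g e)⁻¹ = permA p ^ s := by
  rw [mul_inv_eq_iff_eq_mul]
  ext z
  rw [Perm.mul_apply, Perm.mul_apply, permA_pow_apply, permA_pow_apply]
  rcases z with w | k
  · simp [permB, mul_add]
    linear_combination hs
  · simp [permB]

end Seed

variable [Fact p.Prime] (hp : 5 ≤ p) (hd : d + 3 ≤ p)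
include hp hd

theorem yT_new (i : Fin d) : yT p d (Sum.inl (Sum.inr i)) = jX p d (pt p (i + 1)) := by
  have hinj : Function.Injective fun i : Fin d => jX p d (pt p (i + 1)) := fun a b e => by
    have := pt_inj (p := p) (by omega) (by omega) (jX_injective e)
    exact Fin.ext (by omega)
  rw [yT, Perm.mul_apply,
    (swapAlong_apply (g := fun i : Fin d => (Sum.inl (Sum.inr i) : Big p d)) hinj (fun a b e => by simpa using e) (fun i j => jX_ne_new _ j)
      (List.nodup_finRange d) (List.mem_finRange i)).2, emb_jX, permPi_pt hd hp (by omega)]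

theorem yT_old (i : Fin d) : yT p d (jX p d (pt p (i + 1))) = Sum.inl (Sum.inr i) := by
  have hinj : Function.Injective fun i : Fin d => jX p d (pt p (i + 1)) := fun a b e => by
    have := pt_inj (p := p) (by omega) (by omega) (jX_injective e)
    exact Fin.ext (by omega)
  rw [yT, Perm.mul_apply,
    (swapAlong_apply (g := fun i : Fin d => (Sum.inl (Sum.inr i) : Big p d)) hinj (fun a b e => by simpa using e) (fun i j => jX_ne_new _ j)
      (List.nodup_finRange d) (List.mem_finRange i)).1, emb_new]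

omit hp hd [Fact p.Prime] in
theorem yT_far {z : Pt p} (hz : z ∉ dL p d) : yT p d (jX p d z) = jX p d (permPi p d z) := by
  rw [yT, Perm.mul_apply, swapAlong_fix, emb_jX]
  exact fun i _ => ⟨fun e => hz (mem_dL.2 ⟨i, i.2, (jX_injective e).symm⟩), jX_ne_new _ _⟩

theorem yT_dL {z : Pt p} (hz : z ∈ dL p d) : ∃ i, yT p d (jX p d z) = Sum.inl (Sum.inr i) := by
  obtain ⟨i, hi, rfl⟩ := mem_dL.1 hz
  exact ⟨⟨i, hi⟩, yT_old hp hd ⟨i, hi⟩⟩

theorem yT_sq : yT p d * yT p d = 1 := by
  ext w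
  rw [Perm.mul_apply, Perm.one_apply]
  rcases big_cases w with ⟨z, rfl⟩ | ⟨i, rfl⟩
  · by_cases hz : z ∈ dL p d
    · obtain ⟨i, hi, rfl⟩ := mem_dL.1 hz
      rw [show i = ((⟨i, hi⟩ : Fin d) : ℕ) from rfl, yT_old hp hd, yT_new hp hd]
    · rw [yT_far hz, yT_far (fun h => hz ((permPi_mem_dL hd hp).1 h)), permPi_apply_apply hd]
  · rw [yT_new hp hd, yT_old hp hd]

theorem yT_inv : (yT p d)⁻¹ = yT p d := inv_eq_of_mul_eq_one_right (yT_sq hp hd)

theorem yT_conj {σ : Perm (Pt p)} (hf : ∀ z ∈ dL p d, σ z = z) :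
    yT p d * emb p d σ * (yT p d)⁻¹ = emb p d (permPi p d * σ * permPi p d) := by
  rw [yT_inv hp hd]
  ext w
  rw [Perm.mul_apply, Perm.mul_apply]
  rcases big_cases w with ⟨z, rfl⟩ | ⟨i, rfl⟩
  · rw [emb_jX, Perm.mul_apply, Perm.mul_apply]
    by_cases hz : z ∈ dL p d
    · rw [permPi_dL hd hp hz, hf z hz, permPi_dL hd hp hz]
      obtain ⟨i, hi, rfl⟩ := mem_dL.1 hz
      rw [show i = ((⟨i, hi⟩ : Fin d) : ℕ) from rfl, yT_old hp hd, emb_new, yT_new hp hd]
    · rw [yT_far hz, emb_jX, yT_far]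
      intro h
      have : σ (σ (permPi p d z)) = σ (permPi p d z) := hf _ h
      exact hz ((permPi_mem_dL hd hp).1 (σ.injective this ▸ h))
  · rw [yT_new hp hd, emb_jX, hf _ (mem_dL.2 ⟨i, i.2, rfl⟩), yT_old hp hd, emb_new]

theorem sign_yT : Perm.sign (yT p d) = 1 := by
  rw [yT, map_mul, sign_emb, sign_permPi hd hp, sign_swapAlong (fun i => jX_ne_new _ i), List.length_finRange,
    ← pow_add, ← two_mul, pow_mul]
  simp

theorem yT_comm_star : Commute (yT p d) (emb p d (star3 (ZMod p) 0)) := by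
  have h := yT_conj hp hd (σ := star3 (ZMod p) 0) fun z hz => cyc3_apply_of_ne
    (fun e => pt_notMem_dL hd (show 0 < p by omega) (Or.inl rfl) (by rw [e] at hz; simpa [pt] using hz))
    (fun e => inr_notMem_dL 0 (e ▸ hz)) (fun e => inr_notMem_dL 1 (e ▸ hz))
  nth_rw 2 [← permPi_inv hd (p := p)] at h
  rw [← Rels.star_zero, cyc3_conj, permPi_pt hd hp (by omega), permPi_inr, permPi_inr, mul_inv_eq_iff_eq_mul] at h
  rw [← Rels.star_zero]
  exact h

theorem cycles_comm : Commute (emb p d (permX p d)) (yT p d * emb p d (permS p d) * (yT p d)⁻¹) := by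
  refine Perm.Disjoint.commute fun w => ?_
  rw [yT_inv hp hd, Perm.mul_apply, Perm.mul_apply]
  rcases big_cases w with ⟨z, rfl⟩ | ⟨i, rfl⟩
  · by_cases hz : z ∈ dL p d
    · obtain ⟨i, hi, rfl⟩ := mem_dL.1 hz
      right
      rw [show i = ((⟨i, hi⟩ : Fin d) : ℕ) from rfl, yT_old hp hd, emb_new, yT_new hp hd]
    · have h1 : Sum.inr 0 ∉ dL p d := inr_notMem_dL 0
      have h2 : pt p 0 ∉ dL p d := pt_notMem_dL hd (by omega) (Or.inl rfl)
      by_cases hu : z = Sum.inr 0
      · subst hu; right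
        rw [yT_far h1, permPi_inr, emb_jX, permS_fix h1 (by simp) (pt_ne_inr _ _).symm, yT_far h1, permPi_inr]
      by_cases hq : z = pt p 0
      · subst hq; right
        rw [yT_far h2, permPi_pt hd hp (by omega), emb_jX,
          permS_fix h2 (pt_ne_inr _ _) (fun e => by have := pt_inj (by omega) (by omega) e; omega), yT_far h2,
          permPi_pt hd hp (by omega)]
      · left; rw [emb_jX, permX_fix hz hu hq]
  · left; rw [emb_new]

/-- The Carmichael generators on all points. -/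
theorem star_new (i : Fin d) : yT p d * emb p d (star3 (ZMod p) ((((i : ℕ) + 1 : ℕ)) : ZMod p)) * (yT p d)⁻¹ =
    star3 (ZMod p ⊕ Fin d) (Sum.inr i) := by
  rw [star3, emb_cyc3, cyc3_conj, show (Sum.inl ((((i : ℕ) + 1 : ℕ)) : ZMod p) : Pt p) = pt p (i + 1) from rfl,
    yT_old hp hd, yT_far (inr_notMem_dL 0), yT_far (inr_notMem_dL 1), permPi_inr, permPi_inr]
  rfl

end CfsgLib.BoundedAlt
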