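import Cfsg.Agent.BoundedAlt.Carmichael

/-!
# Four relations giving the alternating group on `p + 2` points
-/

set_option autoImplicit false

namespace CfsgLib.BoundedAlt

variable {G : Type*} [Group G]

theorem commute_of_commute_pow {c x : G} {n : ℕ} (hn : n.Coprime (orderOf x)) (h : Commute c (x ^ n)) :
    Commute c x := by
  obtain ⟨m, hm⟩ := exists_pow_eq_self_of_coprime hn
  have := h.pow_right m
  rwa [hm] at this

/-- The relations `a ^ p = b ^ (p-1)`, `b a ^ (s+1) b⁻¹ = a ^ s`, `b x b⁻¹ = x ^ (2 ^ e)` and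
`x ^ 3 = (x · a x a⁻¹) ^ 2`. -/
structure Seed (G : Type*) [Group G] (p : ℕ) where
  a : G
  b : G
  x : G
  g : (ZMod p)ˣ
  s : ℕ
  e : ℕ
  hgen : ∀ z : ZMod p, z ≠ 0 → ∃ t : ℕ, z = (g : ZMod p) ^ t
  hs : (g : ZMod p) * ((s : ZMod p) + 1) = (s : ZMod p)
  he : 0 < e
  ha : a ^ p = b ^ (p - 1)
  hb : b * a ^ (s + 1) * b⁻¹ = a ^ s
  hx : b * x * b⁻¹ = x ^ (2 ^ e)
  hxx : x ^ 3 = (x * (a * x * a⁻¹)) ^ 2

namespace Seed

variable {p : ℕ} [Fact p.Prime] (D : Seed G p)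

theorem a_pow : D.a ^ p = 1 := by
  have h1 : D.b * (D.a ^ p) ^ (D.s + 1) * D.b⁻¹ = (D.a ^ p) ^ (D.s + 1) := by
    rw [mul_inv_eq_iff_eq_mul, D.ha]
    exact ((Commute.refl D.b).pow_right (p - 1)).pow_right _
  have h2 : D.b * (D.a ^ p) ^ (D.s + 1) * D.b⁻¹ = (D.a ^ p) ^ D.s := by
    rw [← pow_mul, ← pow_mul, mul_comm p, mul_comm p, pow_mul, pow_mul, ← conj_pow, D.hb]
  rw [h2, pow_succ, left_eq_mul] at h1
  exact h1

theorem b_pow : D.b ^ (p - 1) = 1 := D.ha ▸ D.a_pow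

/-- `a ^ i`. -/
def aP (i : ZMod p) : G := D.a ^ i.val

theorem aP_natCast (n : ℕ) : D.aP (n : ZMod p) = D.a ^ n := by
  rw [aP, ZMod.val_natCast]
  exact (pow_eq_pow_mod n D.a_pow).symm

theorem aP_add (i j : ZMod p) : D.aP (i + j) = D.aP i * D.aP j := by
  rw [show i + j = ((i.val + j.val : ℕ) : ZMod p) by rw [Nat.cast_add, ZMod.natCast_zmod_val, ZMod.natCast_zmod_val],
    aP_natCast, pow_add]
  rfl

theorem aP_zero : D.aP 0 = 1 := by simp [aP]

theorem aP_one : D.aP 1 = D.a := by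
  have := D.aP_natCast 1
  simpa using this

theorem aP_neg (i : ZMod p) : D.aP (-i) = (D.aP i)⁻¹ := by
  apply eq_inv_of_mul_eq_one_left
  rw [← D.aP_add, neg_add_cancel, D.aP_zero]

theorem aP_nsmul (n : ℕ) (i : ZMod p) : D.aP i ^ n = D.aP ((n : ZMod p) * i) := by
  induction n with
  | zero => simp [D.aP_zero]
  | succ n ih => rw [pow_succ, ih, ← D.aP_add]; push_cast; ring_nf

theorem b_aP (i : ZMod p) : D.b * D.aP i * D.b⁻¹ = D.aP ((D.g : ZMod p) * i) := by
  have hs1 : ((D.s : ZMod p) + 1) ≠ 0 := by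
    intro h
    have := D.hs
    rw [h, mul_zero] at this
    rw [← this, zero_add] at h
    exact one_ne_zero h
  set σ := (((D.s : ZMod p) + 1)⁻¹ * i).val
  have e : i = ((σ * (D.s + 1) : ℕ) : ZMod p) := by
    push_cast
    rw [ZMod.natCast_zmod_val, mul_comm _ i, mul_assoc, inv_mul_cancel₀ hs1, mul_one]
  rw [e, aP_natCast, mul_comm σ, pow_mul, ← conj_pow, D.hb, ← pow_mul,
    ← D.aP_natCast]
  congr 1
  push_cast
  rw [← mul_assoc, D.hs]

theorem b_pow_aP (t : ℕ) (i : ZMod p) : D.b ^ t * D.aP i * (D.b ^ t)⁻¹ = D.aP ((D.g : ZMod p) ^ t * i) := by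
  induction t generalizing i with
  | zero => simp
  | succ t ih =>
    rw [pow_succ, mul_inv_rev, show D.b ^ t * D.b * D.aP i * (D.b⁻¹ * (D.b ^ t)⁻¹) =
      D.b ^ t * (D.b * D.aP i * D.b⁻¹) * (D.b ^ t)⁻¹ by group, D.b_aP, ih, pow_succ, mul_assoc]

/-- The conjugates of `x` by powers of `a`. -/
def xs (i : ZMod p) : G := D.aP i * D.x * (D.aP i)⁻¹

theorem xs_zero : D.xs 0 = D.x := by simp [xs, D.aP_zero]

theorem xs_one : D.xs 1 = D.a * D.x * D.a⁻¹ := by rw [xs, D.aP_one]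

theorem aP_xs (i j : ZMod p) : D.aP i * D.xs j * (D.aP i)⁻¹ = D.xs (i + j) := by
  simp only [xs, D.aP_add]; group

theorem b_pow_x : ∀ t : ℕ, D.b ^ t * D.x * (D.b ^ t)⁻¹ = D.x ^ ((2 ^ D.e) ^ t)
  | 0 => by simp
  | t + 1 => by
    rw [pow_succ', mul_inv_rev, show D.b * D.b ^ t * D.x * ((D.b ^ t)⁻¹ * D.b⁻¹) =
      D.b * (D.b ^ t * D.x * (D.b ^ t)⁻¹) * D.b⁻¹ by group, b_pow_x t, ← conj_pow, D.hx, ← pow_mul, pow_succ']

theorem b_pow_xs (t : ℕ) (i : ZMod p) :
    D.b ^ t * D.xs i * (D.b ^ t)⁻¹ = D.xs ((D.g : ZMod p) ^ t * i) ^ ((2 ^ D.e) ^ t) := by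
  have h1 := D.b_pow_aP t i
  have h2 := D.b_pow_x t
  simp only [xs]
  rw [conj_pow, ← h2, ← h1]
  group

theorem conj_xs (i : ZMod p) (t : ℕ) (j : ZMod p) :
    MulAut.conj (D.aP i * D.b ^ t) (D.xs j) = D.xs (i + (D.g : ZMod p) ^ t * j) ^ ((2 ^ D.e) ^ t) := by
  rw [map_mul, MulAut.mul_apply, MulAut.conj_apply (D.b ^ t), D.b_pow_xs, map_pow, MulAut.conj_apply, D.aP_xs]

theorem g_half (hp : 5 ≤ p) : (D.g : ZMod p) ^ ((p - 1) / 2) = -1 := by
  have hodd : 2 ∣ p - 1 := by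
    rcases (Fact.out : p.Prime).eq_two_or_odd with h | h <;> omega
  have h1 : ((D.g : ZMod p) ^ ((p - 1) / 2)) ^ 2 = 1 := by
    rw [← pow_mul, Nat.div_mul_cancel hodd, ZMod.pow_card_sub_one_eq_one D.g.ne_zero]
  rcases sq_eq_one_iff.1 h1 with h | h
  · exfalso
    -- powers of `g` take fewer than `p - 1` values
    have hsub : (Finset.univ.erase (0 : ZMod p)) ⊆
        (Finset.range ((p - 1) / 2)).image fun t => (D.g : ZMod p) ^ t := by
      intro z hz
      obtain ⟨t, rfl⟩ := D.hgen z (Finset.ne_of_mem_erase hz)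
      rw [Finset.mem_image]
      exact ⟨t % ((p - 1) / 2), Finset.mem_range.2 (Nat.mod_lt _ (by omega)), (pow_eq_pow_mod t h).symm⟩
    have := (Finset.card_le_card hsub).trans Finset.card_image_le
    rw [Finset.card_erase_of_mem (Finset.mem_univ _), Finset.card_univ, ZMod.card, Finset.card_range] at this
    omega
  · exact h

theorem x_order : Odd (orderOf D.x) := by
  have hp1 : 0 < p - 1 := by have := (Fact.out : p.Prime).two_le; omega
  have h1 : D.x ^ ((2 ^ D.e) ^ (p - 1)) = D.x := by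
    rw [← D.b_pow_x, D.b_pow]; group
  have hge : 1 ≤ (2 ^ D.e) ^ (p - 1) := Nat.one_le_pow _ _ (by positivity)
  have h2 : D.x ^ ((2 ^ D.e) ^ (p - 1) - 1) = 1 := by
    rw [pow_sub _ hge, h1, pow_one, mul_inv_cancel]
  have hodd : Odd ((2 ^ D.e) ^ (p - 1) - 1) := by
    refine Nat.Even.sub_odd hge ?_ odd_one
    exact Nat.even_pow.2 ⟨Nat.even_pow.2 ⟨even_two, D.he.ne'⟩, hp1.ne'⟩
  exact hodd.of_dvd_nat (orderOf_dvd_of_pow_eq_one h2)

theorem coprime_order (t : ℕ) (i : ZMod p) : ((2 ^ D.e) ^ t).Coprime (orderOf (D.xs i)) := by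
  rw [xs, ← MulAut.conj_apply, MulEquiv.orderOf_eq]
  exact ((Nat.coprime_two_left.2 D.x_order).pow_left _).pow_left _

theorem isCarmichael (hp : 5 ≤ p) : IsCarmichael D.xs := by
  set x := D.x
  set y := D.xs 1 with hy
  set n := orderOf x
  obtain ⟨r, hr⟩ : ∃ r, n = 2 * r + 1 := D.x_order
  have hz : x ^ 3 = (x * y) ^ 2 := by rw [hy, D.xs_one]; exact D.hxx
  have hxn : x ^ n = 1 := pow_orderOf_eq_one x
  have hyn : y ^ n = 1 := by rw [hy, xs, conj_pow, hxn, mul_one, mul_inv_cancel]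
  set z := x ^ 3 with hzdef
  set z1 := y ^ 3 with hz1def
  have czx : Commute z x := (Commute.refl x).pow_left 3
  have czy : Commute z y := by
    have h1 : Commute z (x * y) := by rw [hz]; exact (Commute.refl _).pow_left 2
    have := czx.inv_right.mul_right h1
    rwa [inv_mul_cancel_left] at this
  -- the reversed pair
  set E := (2 ^ D.e) ^ ((p - 1) / 2) with hE
  have hrev : z1 ^ E = (y ^ E * x ^ E) ^ 2 := by
    have h1 := congrArg (MulAut.conj (D.aP 1 * D.b ^ ((p - 1) / 2))) hz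
    rw [hzdef, show y = D.xs 1 from hy, show x = D.xs 0 from D.xs_zero.symm, map_pow, map_pow, MulEquiv.map_mul,
      D.conj_xs, D.conj_xs, D.g_half hp, mul_zero, mul_one, add_neg_cancel, add_zero, D.xs_zero] at h1
    rw [hz1def, pow_right_comm]
    exact h1
  have cz1x : Commute z1 x := by
    have h1 : Commute (z1 ^ E) (y ^ E * x ^ E) := by rw [hrev]; exact (Commute.refl _).pow_left 2
    have h2 : Commute (z1 ^ E) (y ^ E) := ((Commute.refl y).pow_pow 3 1 |>.pow_pow E E |> fun h => by simpa using h)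
    have h3 := h2.inv_right.mul_right h1
    rw [inv_mul_cancel_left] at h3
    have h4 : Commute (z1 ^ E) x := commute_of_commute_pow (by simpa [D.xs_zero] using D.coprime_order _ 0) h3
    refine (commute_of_commute_pow ?_ h4.symm).symm
    exact (D.coprime_order ((p - 1) / 2) 1).coprime_dvd_right (orderOf_pow_dvd 3)
  have cz1y : Commute z1 y := (Commute.refl y).pow_left 3
  -- `z = z1 ^ 2`
  have hu : (y * x) ^ 2 = z := by
    rw [show (y * x) ^ 2 = x⁻¹ * (x * y) ^ 2 * x by simp only [sq]; group, ← hz, mul_assoc, czx.eq,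
      inv_mul_cancel_left]
  have hxyx : x * y * x = z * y⁻¹ := by
    rw [eq_mul_inv_iff_mul_eq, hz, sq]; group
  have hyxy : y * x * y = z * x⁻¹ := by
    rw [eq_mul_inv_iff_mul_eq, ← hu, sq]; group
  have hc : z = z1 * z1 := by
    set c := z1 * z1 * z⁻¹
    have ccx : Commute c x := ((cz1x.mul_left cz1x).mul_left czx.inv_left)
    have ccy : Commute c y := ((cz1y.mul_left cz1y).mul_left czy.inv_left)
    have cz : Commute z z1 := czy.pow_right 3
    have hy2 : y * y = z1 * y⁻¹ := by rw [hz1def, pow_three']; group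
    have hx2 : x * x = z * x⁻¹ := by rw [hzdef, pow_three']; group
    have e1 : x * y * (y * x) = z1 * (x * y⁻¹ * x) := by
      calc x * y * (y * x) = (x * (y * y)) * x := by group
        _ = (x * z1) * y⁻¹ * x := by rw [hy2]; group
        _ = _ := by rw [← cz1x.eq]; group
    have hxi : x⁻¹ = z⁻¹ * (y * x * y) := by rw [hyxy]; group
    have hyi : y⁻¹ = z⁻¹ * (x * y * x) := by rw [hxyx]; group
    have e2 : y * x * (x * y) = c * (x * y * (y * x)) := by
      calc y * x * (x * y) = (y * z) * x⁻¹ * y := by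
            rw [show y * x * (x * y) = y * (x * x) * y by group, hx2]; group
        _ = z * (y * x⁻¹ * y) := by rw [← czy.eq]; group
        _ = z * ((y * z⁻¹) * y * x * y * y) := by rw [hxi]; group
        _ = z * ((z⁻¹ * y) * y * x * (y * y)) := by rw [czy.inv_left.eq]; group
        _ = (y * y) * x * (y * y) := by group
        _ = z1 * (y⁻¹ * x * z1) * y⁻¹ := by rw [hy2]; group
        _ = z1 * ((y⁻¹ * z1) * x) * y⁻¹ := by rw [mul_assoc y⁻¹ x, ← cz1x.eq]; group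
        _ = z1 * z1 * (y⁻¹ * x * y⁻¹) := by rw [← cz1y.inv_right.eq]; group
        _ = z1 * z1 * (z⁻¹ * (x * y * x) * x * (z⁻¹ * (x * y * x))) := by rw [← hyi]
        _ = z1 * z1 * z⁻¹ * ((x * y * x * x * z⁻¹) * x * y * x) := by group
        _ = z1 * z1 * z⁻¹ * ((x * y * (x * x) * x * z⁻¹) * y * x) := by
            rw [mul_assoc (x * y * x * x) z⁻¹ x, czx.inv_left.eq]; group
        _ = _ := by
            rw [show x * y * (x * x) * x * z⁻¹ = x * y * (x ^ 3 * z⁻¹) by rw [pow_three']; group, ← hzdef,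
              mul_inv_cancel, mul_one, mul_assoc (x * y) y x]
    set u := x * y
    set u' := y * x
    have e3 : u * u' * u⁻¹ = c⁻¹ * u' := by
      rw [mul_inv_eq_iff_eq_mul, mul_assoc c⁻¹, e2, inv_mul_cancel_left]
    have ccu' : Commute c u' := ccy.mul_right ccx
    have e4 : u * u' ^ 2 * u⁻¹ = c⁻¹ ^ 2 * u' ^ 2 := by rw [← conj_pow, e3, ccu'.inv_left.mul_pow]
    rw [hu, show u * z * u⁻¹ = z by rw [← (czx.mul_right czy).eq, mul_inv_cancel_right], right_eq_mul] at e4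
    have e5 : c ^ n = 1 := by
      have hzn : z ^ n = 1 := by rw [hzdef, ← pow_mul, mul_comm, pow_mul, hxn, one_pow]
      have hz1n : z1 ^ n = 1 := by rw [hz1def, ← pow_mul, mul_comm, pow_mul, hyn, one_pow]
      rw [(cz.symm.mul_left cz.symm).inv_right.mul_pow, (Commute.refl z1).mul_pow, hz1n, inv_pow, hzn]; group
    have e6 : c = 1 := by
      rw [inv_pow, inv_eq_one] at e4
      rwa [hr, pow_succ, pow_mul, e4, one_pow, one_mul] at e5
    exact (mul_inv_eq_one.1 e6).symm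
  have hz1 : z1 = 1 := by
    suffices h : z1 ^ E = 1 by
      obtain ⟨m, hm⟩ := exists_pow_eq_self_of_coprime
        ((D.coprime_order ((p - 1) / 2) 1).coprime_dvd_right (orderOf_pow_dvd 3) : E.Coprime (orderOf (y ^ 3)))
      rw [← hz1def] at hm
      rw [← hm, h, one_pow]
    have hEm : E % 3 = 1 ∨ E % 3 = 2 := by
      rcases (show E % 3 = 0 ∨ E % 3 = 1 ∨ E % 3 = 2 by omega) with h | h
      · exact absurd (Nat.prime_three.dvd_of_dvd_pow (Nat.prime_three.dvd_of_dvd_pow (Nat.dvd_of_mod_eq_zero h)))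
          (by norm_num)
      · exact h
    obtain ⟨k, hk⟩ : ∃ k : ℕ, (y ^ E * x ^ E) ^ 2 = z1 ^ k ∧ k = E + E := by
      rcases hEm with h | h
      · obtain ⟨m, hm⟩ : ∃ m, E = 3 * m + 1 := ⟨E / 3, by omega⟩
        have ey : y ^ E = z1 ^ m * y := by rw [hm, pow_add, pow_mul, pow_one]
        have ex : x ^ E = z ^ m * x := by rw [hm, pow_add, pow_mul, pow_one]
        refine ⟨6 * m + 2, ?_, by omega⟩
        have hcomm : Commute (z1 ^ m * z ^ m) (y * x) :=
          ((cz1y.mul_right cz1x).pow_left m).mul_left ((czy.mul_right czx).pow_left m)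
        have e : z1 ^ m * y * (z ^ m * x) = z1 ^ m * z ^ m * (y * x) := by
          rw [mul_assoc (z1 ^ m), ← mul_assoc y, ← (czy.pow_left m).eq]; group
        rw [ey, ex, e, hcomm.mul_pow, hu, hc, (Commute.refl z1).mul_pow, ← pow_add, ← pow_add, ← pow_mul,
          show z1 * z1 = z1 ^ 2 from (pow_two z1).symm, ← pow_add]
        congr 1; ring
      · obtain ⟨m, hm⟩ : ∃ m, E = 3 * m + 2 := ⟨E / 3, by omega⟩
        have ey : y ^ E = z1 ^ (m + 1) * y⁻¹ := by
          rw [eq_mul_inv_iff_mul_eq, ← pow_succ, hm, hz1def, ← pow_mul]; ring_nf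
        have ex : x ^ E = z ^ (m + 1) * x⁻¹ := by
          rw [eq_mul_inv_iff_mul_eq, ← pow_succ, hm, hzdef, ← pow_mul]; ring_nf
        have ez : (y⁻¹ * x⁻¹) ^ 2 = z⁻¹ := by rw [← mul_inv_rev, inv_pow, ← hz]
        refine ⟨6 * m + 4, ?_, by omega⟩
        have hcomm : Commute (z1 ^ (m + 1) * z ^ (m + 1)) (y⁻¹ * x⁻¹) :=
          ((cz1y.inv_right.mul_right cz1x.inv_right).pow_left (m + 1)).mul_left
            ((czy.inv_right.mul_right czx.inv_right).pow_left (m + 1))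
        have e : z1 ^ (m + 1) * y⁻¹ * (z ^ (m + 1) * x⁻¹) = z1 ^ (m + 1) * z ^ (m + 1) * (y⁻¹ * x⁻¹) := by
          rw [mul_assoc (z1 ^ (m + 1)), ← mul_assoc y⁻¹, ← (czy.inv_right.pow_left (m + 1)).eq]; group
        rw [ey, ex, e, hcomm.mul_pow, ez, hc, (Commute.refl z1).mul_pow, ← pow_add, ← pow_add, ← pow_mul,
          mul_inv_eq_iff_eq_mul, show z1 * z1 = z1 ^ 2 from (pow_two z1).symm, ← pow_add]
        congr 1; ring
    rw [hk.1, hk.2, pow_add, left_eq_mul] at hrev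
    exact hrev
  have hx3 : x ^ 3 = 1 := by rw [← hzdef, hc, hz1, mul_one]
  have hxy : (x * y) ^ 2 = 1 := by rw [← hz]; exact hx3
  have hcube : ∀ i, D.xs i ^ 3 = 1 := fun i => by rw [xs, conj_pow, hx3, mul_one, mul_inv_cancel]
  refine ⟨hcube, fun i j hij => ?_⟩
  obtain ⟨t, ht⟩ := D.hgen (j - i) (sub_ne_zero.2 (Ne.symm hij))
  have h1 := congrArg (MulAut.conj (D.aP i * D.b ^ t)) hxy
  rw [show y = D.xs 1 from hy, show x = D.xs 0 from D.xs_zero.symm, map_pow, MulEquiv.map_mul, map_one,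
    D.conj_xs, D.conj_xs, mul_one, mul_zero, add_zero, ← ht, add_sub_cancel,
    pow_eq_pow_mod _ (hcube i), pow_eq_pow_mod _ (hcube j)] at h1
  rcases (show (2 ^ D.e) ^ t % 3 = 1 ∨ (2 ^ D.e) ^ t % 3 = 2 by
      rcases (show (2 ^ D.e) ^ t % 3 = 0 ∨ (2 ^ D.e) ^ t % 3 = 1 ∨ (2 ^ D.e) ^ t % 3 = 2 by omega) with h | h
      · exact absurd (Nat.prime_three.dvd_of_dvd_pow (Nat.prime_three.dvd_of_dvd_pow (Nat.dvd_of_mod_eq_zero h)))
          (by norm_num)
      · exact h) with h | h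
  · rwa [h, pow_one, pow_one] at h1
  · rw [h] at h1
    have hi : D.xs i ^ 2 = (D.xs i)⁻¹ := eq_inv_of_mul_eq_one_left (by rw [← pow_succ]; exact hcube i)
    have hj : D.xs j ^ 2 = (D.xs j)⁻¹ := eq_inv_of_mul_eq_one_left (by rw [← pow_succ]; exact hcube j)
    rw [hi, hj, ← mul_inv_rev, inv_pow, inv_eq_one] at h1
    rw [show (D.xs i * D.xs j) ^ 2 = D.xs i * (D.xs j * D.xs i) ^ 2 * (D.xs i)⁻¹ by simp only [sq]; group, h1,
      mul_one, mul_inv_cancel]

end Seed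

end CfsgLib.BoundedAlt
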