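import Cfsg.Agent.BoundedAlt.Frame
import Cfsg.Agent.BoundedAlt.Seed

/-!
# Seven relations bound the order
-/

set_option autoImplicit false

namespace CfsgLib.BoundedAlt

open Equiv Equiv.Perm

variable {G : Type*} [Group G] {p : ℕ} [Fact p.Prime]

theorem conj_mem_alt {α : Type*} [Fintype α] [DecidableEq α] (C : Perm α) {σ : Perm α}
    (h : σ ∈ alternatingGroup α) : C * σ * C⁻¹ ∈ alternatingGroup α := by
  rw [Equiv.Perm.mem_alternatingGroup] at h ⊢
  simp [map_mul, h]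

/-- A word for an even permutation. -/
noncomputable def word (σ : Perm (Pt p)) : FreeGroup (ZMod p) :=
  open Classical in
  if h : ∃ w : FreeGroup (ZMod p), FreeGroup.lift (star3 (ZMod p)) w = σ then h.choose else 1

theorem lift_word {σ : Perm (Pt p)} (h : σ ∈ alternatingGroup (Pt p)) :
    FreeGroup.lift (star3 (ZMod p)) (word σ) = σ := by
  have h' : ∃ w : FreeGroup (ZMod p), FreeGroup.lift (star3 (ZMod p)) w = σ :=
    alternating_le_of_star3 (M := (FreeGroup.lift (star3 (ZMod p))).range)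
      (fun i => ⟨FreeGroup.of i, by simp⟩) h
  rw [word, dif_pos h']
  exact h'.choose_spec

namespace Seed

variable (D : Seed G p) (hp : 5 ≤ p)

/-- The map given by the Carmichael elements. -/
noncomputable def psi : alternatingGroup (Pt p) →* G := ((D.isCarmichael hp).exists_hom).choose

/-- The map, extended by `1` to odd permutations. -/
noncomputable def ev (σ : Perm (Pt p)) : G :=
  open Classical in
  if h : σ ∈ alternatingGroup (Pt p) then D.psi hp ⟨σ, h⟩ else 1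

theorem ev_mul {σ τ : Perm (Pt p)} (h1 : σ ∈ alternatingGroup (Pt p)) (h2 : τ ∈ alternatingGroup (Pt p)) :
    D.ev hp (σ * τ) = D.ev hp σ * D.ev hp τ := by
  rw [ev, ev, ev, dif_pos h1, dif_pos h2, dif_pos (mul_mem h1 h2), ← map_mul]
  rfl

theorem ev_one : D.ev hp 1 = 1 := by
  rw [ev, dif_pos (one_mem _)]
  exact map_one _

theorem ev_inv {σ : Perm (Pt p)} (h : σ ∈ alternatingGroup (Pt p)) : D.ev hp σ⁻¹ = (D.ev hp σ)⁻¹ := by
  apply eq_inv_of_mul_eq_one_left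
  rw [← D.ev_mul hp (inv_mem h) h, inv_mul_cancel, D.ev_one hp]

theorem ev_conj {σ τ : Perm (Pt p)} (h1 : σ ∈ alternatingGroup (Pt p)) (h2 : τ ∈ alternatingGroup (Pt p)) :
    D.ev hp (σ * τ * σ⁻¹) = D.ev hp σ * D.ev hp τ * (D.ev hp σ)⁻¹ := by
  rw [D.ev_mul hp (mul_mem h1 h2) (inv_mem h1), D.ev_mul hp h1 h2, D.ev_inv hp h1]

theorem ev_star (i : ZMod p) : D.ev hp (star3 (ZMod p) i) = D.xs i := by
  rw [ev, dif_pos (star3_mem i)]
  exact ((D.isCarmichael hp).exists_hom).choose_spec i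

theorem ev_mem (σ : Perm (Pt p)) : D.ev hp σ ∈ Subgroup.closure (Set.range D.xs) := by
  unfold ev
  split_ifs with h
  · obtain ⟨⟨τ, hτ⟩, hm, e⟩ := alternating_le_of_star3
      (M := ((Subgroup.closure (Set.range D.xs)).comap (D.psi hp)).map (alternatingGroup (Pt p)).subtype)
      (fun i => ⟨⟨star3 (ZMod p) i, star3_mem i⟩, by
        rw [SetLike.mem_coe, Subgroup.mem_comap]
        exact ((D.isCarmichael hp).exists_hom.choose_spec i) ▸ Subgroup.subset_closure ⟨i, rfl⟩, rfl⟩) h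
    simp only [Subgroup.coe_subtype] at e
    subst e
    exact hm
  · exact one_mem _

theorem lift_xs_word {σ : Perm (Pt p)} (h : σ ∈ alternatingGroup (Pt p)) :
    FreeGroup.lift D.xs (word σ) = D.ev hp σ := by
  let f : FreeGroup (ZMod p) →* alternatingGroup (Pt p) := FreeGroup.lift fun i => ⟨star3 (ZMod p) i, star3_mem i⟩
  have h1 : (alternatingGroup (Pt p)).subtype.comp f = FreeGroup.lift (star3 (ZMod p)) := by
    ext i; simp [f]
  have h2 : (D.psi hp).comp f = FreeGroup.lift D.xs := by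
    ext i
    simp only [MonoidHom.comp_apply, f, FreeGroup.lift_apply_of]
    exact (D.isCarmichael hp).exists_hom.choose_spec i
  have e : (f (word σ) : Perm (Pt p)) = σ := (DFunLike.congr_fun h1 (word σ)).trans (lift_word h)
  rw [← h2, MonoidHom.comp_apply, ev, dif_pos h]
  exact congrArg _ (Subtype.ext e)

/-- `c` acts on the image as `C` does on permutations. -/
def Acts (c : G) (C : Perm (Pt p)) : Prop :=
  ∀ σ ∈ alternatingGroup (Pt p), c * D.ev hp σ * c⁻¹ = D.ev hp (C * σ * C⁻¹)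

variable {D hp}

theorem Acts.of_gens {c : G} {C : Perm (Pt p)}
    (h : ∀ i, c * D.xs i * c⁻¹ = D.ev hp (C * star3 (ZMod p) i * C⁻¹)) : D.Acts hp c C := by
  let M : Subgroup (Perm (Pt p)) :=
    { carrier := {σ | σ ∈ alternatingGroup (Pt p) ∧ c * D.ev hp σ * c⁻¹ = D.ev hp (C * σ * C⁻¹)}
      one_mem' := ⟨one_mem _, by simp [D.ev_one hp]⟩
      mul_mem' := by
        intro σ τ hσ hτ
        refine ⟨mul_mem hσ.1 hτ.1, ?_⟩
        rw [show C * (σ * τ) * C⁻¹ = (C * σ * C⁻¹) * (C * τ * C⁻¹) by group,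
          D.ev_mul hp (conj_mem_alt C hσ.1) (conj_mem_alt C hτ.1), D.ev_mul hp hσ.1 hτ.1, ← hσ.2, ← hτ.2]
        group
      inv_mem' := by
        intro σ hσ
        refine ⟨inv_mem hσ.1, ?_⟩
        rw [show C * σ⁻¹ * C⁻¹ = (C * σ * C⁻¹)⁻¹ by group, D.ev_inv hp (conj_mem_alt C hσ.1), D.ev_inv hp hσ.1,
          ← hσ.2]
        group }
  intro σ hσ
  exact (alternating_le_of_star3 (M := M) (fun i => ⟨star3_mem i, by rw [D.ev_star hp]; exact h i⟩) hσ).2

theorem Acts.mul {c c' : G} {C C' : Perm (Pt p)} (h : D.Acts hp c C) (h' : D.Acts hp c' C') :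
    D.Acts hp (c * c') (C * C') := fun σ hσ => by
  rw [show c * c' * D.ev hp σ * (c * c')⁻¹ = c * (c' * D.ev hp σ * c'⁻¹) * c⁻¹ by group, h' σ hσ,
    h _ (conj_mem_alt C' hσ)]
  congr 1

theorem Acts.pow {c : G} {C : Perm (Pt p)} (h : D.Acts hp c C) : ∀ n : ℕ, D.Acts hp (c ^ n) (C ^ n)
  | 0 => fun σ _ => by simp
  | n + 1 => by rw [pow_succ, pow_succ]; exact (Acts.pow h n).mul h

variable (D hp)

theorem acts_ev {σ : Perm (Pt p)} (h : σ ∈ alternatingGroup (Pt p)) : D.Acts hp (D.ev hp σ) σ :=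
  fun _ hτ => (D.ev_conj hp h hτ).symm

theorem acts_a : D.Acts hp D.a (permA p) := Acts.of_gens fun i => by
  rw [permA_conj, D.ev_star hp, ← D.aP_xs 1 i, D.aP_one]

theorem acts_b (he : D.e = 1 ∨ D.e = 2) : D.Acts hp D.b (permB p D.g D.e) := Acts.of_gens fun i => by
  have hpow : ∀ (k : ℕ) (j : ZMod p), D.ev hp (star3 (ZMod p) j ^ k) = D.xs j ^ k := by
    intro k j
    induction k with
    | zero => simp [D.ev_one hp]
    | succ k ih => rw [pow_succ, pow_succ, D.ev_mul hp (pow_mem (star3_mem j) k) (star3_mem j), ih, D.ev_star hp]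
  rw [permB_conj D.g he, hpow]
  simpa using D.b_pow_xs 1 i

/-- The commutator of `b ^ e` with its image is trivial only if `a` is in the image. -/
theorem a_mem (he : D.e = 1 ∨ D.e = 2) (hB : permB p D.g D.e ^ D.e ∈ alternatingGroup (Pt p))
    (hb : D.b ^ D.e = D.ev hp (permB p D.g D.e ^ D.e)) : D.a ∈ Subgroup.closure (Set.range D.xs) := by
  set H := Subgroup.closure (Set.range D.xs)
  have hge : (D.g : ZMod p) ^ D.e ≠ 1 := by
    intro h
    have h2 : (D.g : ZMod p) ^ 2 = 1 := by rcases he with h' | h' <;> rw [h'] at h <;> simp_all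
    have hsub : Finset.univ.erase (0 : ZMod p) ⊆ {1, (D.g : ZMod p)} := by
      intro z hz
      obtain ⟨t, rfl⟩ := D.hgen z (Finset.ne_of_mem_erase hz)
      rw [pow_eq_pow_mod t h2]
      rcases Nat.mod_two_eq_zero_or_one t with h' | h' <;> simp [h']
    have := (Finset.card_le_card hsub).trans Finset.card_le_two
    rw [Finset.card_erase_of_mem (Finset.mem_univ _), Finset.card_univ, ZMod.card] at this
    omega
  have key : D.aP (1 - (D.g : ZMod p) ^ D.e) ∈ H := by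
    have e1 : D.a * D.b ^ D.e * D.a⁻¹ * (D.b ^ D.e)⁻¹ = D.aP (1 - (D.g : ZMod p) ^ D.e) := by
      rw [sub_eq_add_neg, D.aP_add, D.aP_one, D.aP_neg, ← mul_one ((D.g : ZMod p) ^ D.e), ← D.b_pow_aP, D.aP_one]
      group
    rw [← e1, hb, D.acts_a hp _ hB]
    exact mul_mem (D.ev_mem hp _) (inv_mem (D.ev_mem hp _))
  have := pow_mem key (1 - (D.g : ZMod p) ^ D.e)⁻¹.val
  rwa [D.aP_nsmul, ZMod.natCast_zmod_val, inv_mul_cancel₀ (sub_ne_zero.2 hge.symm), D.aP_one] at this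

include hp in
theorem sign_permB_eq : Perm.sign (permB p D.g D.e) = (-1) ^ (D.e + 1) := sign_permB hp D.g D.hgen D.e

include hp in
theorem permB_pow_mem (he : D.e = 1 ∨ D.e = 2) : permB p D.g D.e ^ D.e ∈ alternatingGroup (Pt p) := by
  rw [Equiv.Perm.mem_alternatingGroup, map_pow, D.sign_permB_eq hp]
  rcases he with h | h <;> simp [h]

include hp in
theorem permR_mem {d : ℕ} (hd : d + 3 ≤ p) {σ : Perm (Pt p)} (hσ : Perm.sign σ * Perm.sign σ = 1) :
    σ * permR p d D.e * σ * (permB p D.g D.e)⁻¹ ∈ alternatingGroup (Pt p) := by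
  rw [Equiv.Perm.mem_alternatingGroup, map_mul, map_mul, map_mul, map_inv, sign_permR hd, D.sign_permB_eq hp,
    mul_comm (Perm.sign σ), mul_assoc ((-1 : ℤˣ) ^ (D.e + 1)), hσ, mul_one, mul_inv_cancel]

end Seed

/-- The seven relations. -/
structure Rels (G : Type*) [Group G] (p d : ℕ) [Fact p.Prime] where
  D : Seed G p
  hp : 5 ≤ p
  hd1 : 1 ≤ d
  hd : d + 3 ≤ p
  he : D.e = 1 ∨ D.e = 2
  y : G
  hxy : Commute y D.x
  hR : y * (D.ev hp (permR p d D.e * (permB p D.g D.e)⁻¹) * D.b) * y⁻¹ =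
    D.ev hp (permPi p d * permR p d D.e * permPi p d * (permB p D.g D.e)⁻¹) * D.b
  hK : D.ev hp (permX p d) * (y * D.ev hp (permS p d) * y⁻¹) * (D.ev hp (permX p d))⁻¹ *
    (y * D.ev hp (permS p d) * y⁻¹)⁻¹ = D.b ^ D.e * (D.ev hp (permB p D.g D.e ^ D.e))⁻¹

namespace Rels

variable {d : ℕ} (E : Rels G p d)

/-- The defect of `b ^ e`. -/
noncomputable def kap : G := E.D.b ^ E.D.e * (E.D.ev E.hp (permB p E.D.g E.D.e ^ E.D.e))⁻¹

/-- The conjugate of the cycle. -/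
noncomputable def cS : G := E.y * E.D.ev E.hp (permS p d) * E.y⁻¹

theorem kap_comm {σ : Perm (Pt p)} (hσ : σ ∈ alternatingGroup (Pt p)) : Commute E.kap (E.D.ev E.hp σ) := by
  set B := permB p E.D.g E.D.e ^ E.D.e
  have hB : B ∈ alternatingGroup (Pt p) := E.D.permB_pow_mem E.hp E.he
  have h1 := ((E.D.acts_b E.hp E.he).pow E.D.e).mul (E.D.acts_ev E.hp (inv_mem hB)) σ hσ
  rw [mul_inv_cancel, one_mul, inv_one, mul_one, E.D.ev_inv E.hp hB] at h1
  exact mul_inv_eq_iff_eq_mul.1 h1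

theorem pi_conj_mem {d : ℕ} (hd : d + 3 ≤ p) {σ : Perm (Pt p)} (h : σ ∈ alternatingGroup (Pt p)) :
    permPi p d * σ * permPi p d ∈ alternatingGroup (Pt p) := by
  simpa [permPi_inv hd] using conj_mem_alt (permPi p d) h

theorem star_zero : cyc3 (pt p 0) (Sum.inr 0) (Sum.inr 1) = star3 (ZMod p) 0 := by simp [star3, pt]

/-- `y` acts as `π` away from `1, …, d`. -/
theorem y_acts {σ : Perm (Pt p)} (hσ : σ ∈ alternatingGroup (Pt p)) (hf : ∀ z ∈ dL p d, σ z = z) :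
    E.y * E.D.ev E.hp σ * E.y⁻¹ = E.D.ev E.hp (permPi p d * σ * permPi p d) := by
  have hπ := permPi_sq E.hd (p := p)
  let M : Subgroup (Perm (Pt p)) :=
    { carrier := {σ | σ ∈ alternatingGroup (Pt p) ∧
        E.y * E.D.ev E.hp σ * E.y⁻¹ = E.D.ev E.hp (permPi p d * σ * permPi p d)}
      one_mem' := ⟨one_mem _, by simp [E.D.ev_one E.hp, hπ]⟩
      mul_mem' := by
        intro σ τ hσ hτ
        refine ⟨mul_mem hσ.1 hτ.1, ?_⟩
        rw [show permPi p d * (σ * τ) * permPi p d =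
            permPi p d * σ * permPi p d * (permPi p d * τ * permPi p d) by
          simp only [mul_assoc]; rw [← mul_assoc (permPi p d) (permPi p d), hπ, one_mul],
          E.D.ev_mul E.hp (pi_conj_mem E.hd hσ.1) (pi_conj_mem E.hd hτ.1), ← hσ.2, ← hτ.2,
          E.D.ev_mul E.hp hσ.1 hτ.1]
        group
      inv_mem' := by
        intro σ hσ
        refine ⟨inv_mem hσ.1, ?_⟩
        rw [show permPi p d * σ⁻¹ * permPi p d = (permPi p d * σ * permPi p d)⁻¹ by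
          rw [mul_inv_rev, mul_inv_rev, permPi_inv E.hd, mul_assoc],
          E.D.ev_inv E.hp (pi_conj_mem E.hd hσ.1), E.D.ev_inv E.hp hσ.1, ← hσ.2]
        group }
  have hc : cyc3 (pt p 0) (Sum.inr 0) (Sum.inr 1) ∈ M := by
    refine ⟨star_zero (p := p) ▸ star3_mem 0, ?_⟩
    rw [star_zero, E.D.ev_star E.hp, E.D.xs_zero, E.hxy.eq, mul_inv_cancel_right,
      show permPi p d * star3 (ZMod p) 0 * permPi p d = permPi p d * star3 (ZMod p) 0 * (permPi p d)⁻¹ by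
        rw [permPi_inv E.hd], ← star_zero, cyc3_conj, permPi_pt E.hd E.hp (by omega), permPi_inr,
      permPi_inr, star_zero, E.D.ev_star E.hp, E.D.xs_zero]
  have hn : ∀ m ∈ M, permR p d E.D.e * m * (permR p d E.D.e)⁻¹ ∈ M := by
    intro m hm
    refine ⟨conj_mem_alt _ hm.1, ?_⟩
    have hr : permR p d E.D.e * (permB p E.D.g E.D.e)⁻¹ ∈ alternatingGroup (Pt p) := by
      simpa using E.D.permR_mem E.hp E.hd (σ := 1) (by simp)
    have hs := E.D.permR_mem E.hp E.hd (σ := permPi p d) (by rw [← map_mul, hπ, map_one])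
    have a1 := ((E.D.acts_ev E.hp hr).mul (E.D.acts_b E.hp E.he)) m hm.1
    have a2 := ((E.D.acts_ev E.hp hs).mul (E.D.acts_b E.hp E.he)) _ (pi_conj_mem E.hd hm.1)
    rw [inv_mul_cancel_right] at a1 a2
    rw [← a1, show permPi p d * (permR p d E.D.e * m * (permR p d E.D.e)⁻¹) * permPi p d =
        permPi p d * permR p d E.D.e * permPi p d * (permPi p d * m * permPi p d) *
          (permPi p d * permR p d E.D.e * permPi p d)⁻¹ by
      simp only [mul_inv_rev, permPi_inv E.hd, mul_assoc]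
      simp only [← mul_assoc (permPi p d) (permPi p d), hπ, one_mul],
      ← a2, ← hm.2, ← E.hR]
    group
  have hR := rich_longCycle (nodup_R E.hd (p := p) (d := d)) (E.D.e + (p - d - 1)) hc hn
  exact ((hR.mono (T := {z | z ∉ dL p d}) fun z hz => mem_R E.hd hz).mem
    (Equiv.Perm.mem_alternatingGroup.1 hσ) fun z hz => hf z (not_not.1 hz)).2

theorem pi_fix {a : Pt p} (ha : permPi p d a = a) {σ : Perm (Pt p)} (hσ : σ a = a) :
    (permPi p d * σ * permPi p d) a = a := by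
  rw [Perm.mul_apply, Perm.mul_apply, ha, hσ, ha]

theorem cS_comm_small {σ : Perm (Pt p)} (hσ : σ ∈ alternatingGroup (Pt p)) (hf : ∀ z ∈ dL p d, σ z = z)
    (hv : σ (Sum.inr 1) = Sum.inr 1) (hq : σ (pt p (d + 1)) = pt p (d + 1)) :
    Commute E.cS (E.D.ev E.hp σ) := by
  have hπ := permPi_sq E.hd (p := p)
  set τ := permPi p d * σ * permPi p d with hτ
  have hτm : τ ∈ alternatingGroup (Pt p) := pi_conj_mem E.hd hσ
  have hτf : ∀ z ∈ dL p d, τ z = z := fun z hz => pi_fix (permPi_dL E.hd E.hp hz) (hf z hz)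
  have hdis : Perm.Disjoint (permS p d) τ := by
    intro z
    by_cases h1 : z ∈ dL p d
    · exact Or.inr (hτf z h1)
    by_cases h2 : z = Sum.inr 1
    · exact Or.inr (h2 ▸ pi_fix (permPi_inr _) hv)
    by_cases h3 : z = pt p (d + 1)
    · exact Or.inr (h3 ▸ pi_fix (permPi_pt E.hd E.hp le_rfl) hq)
    exact Or.inl (permS_fix h1 h2 h3)
  have hS : permS p d ∈ alternatingGroup (Pt p) :=
    Equiv.Perm.mem_alternatingGroup.2 (sign_permS E.hd E.hp E.hd1)
  have e : E.D.ev E.hp σ = E.y * E.D.ev E.hp τ * E.y⁻¹ := by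
    rw [E.y_acts hτm hτf]
    congr 1
    rw [hτ]; simp only [mul_assoc, hπ, mul_one]
    rw [← mul_assoc, hπ, one_mul]
  have h1 : Commute (E.D.ev E.hp (permS p d)) (E.D.ev E.hp τ) := by
    have := hdis.commute
    rw [Commute, SemiconjBy, ← E.D.ev_mul E.hp hS hτm, ← E.D.ev_mul E.hp hτm hS, this.eq]
  rw [e, cS]
  exact (SemiconjBy.conj_iff).2 h1

theorem kap_eq : E.kap = 1 := by
  let χ : Perm (Pt p) → G := fun σ => E.D.ev E.hp σ * E.cS * (E.D.ev E.hp σ)⁻¹ * E.cS⁻¹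
  have hz : ∀ {k : G}, k ∈ Subgroup.zpowers E.kap → ∀ {σ : Perm (Pt p)}, σ ∈ alternatingGroup (Pt p) →
      Commute k (E.D.ev E.hp σ) := by
    rintro k ⟨m, rfl⟩ σ hσ
    exact (E.kap_comm hσ).zpow_left m
  have hmul : ∀ {σ τ}, σ ∈ alternatingGroup (Pt p) → τ ∈ alternatingGroup (Pt p) →
      χ τ ∈ Subgroup.zpowers E.kap → χ (σ * τ) = χ τ * χ σ := by
    intro σ τ hσ hτ hk
    show E.D.ev E.hp (σ * τ) * E.cS * (E.D.ev E.hp (σ * τ))⁻¹ * E.cS⁻¹ = _
    rw [E.D.ev_mul E.hp hσ hτ]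
    calc E.D.ev E.hp σ * E.D.ev E.hp τ * E.cS * (E.D.ev E.hp σ * E.D.ev E.hp τ)⁻¹ * E.cS⁻¹ =
        E.D.ev E.hp σ * χ τ * (E.cS * (E.D.ev E.hp σ)⁻¹ * E.cS⁻¹) := by simp only [χ]; group
      _ = χ τ * E.D.ev E.hp σ * (E.cS * (E.D.ev E.hp σ)⁻¹ * E.cS⁻¹) := by rw [(hz hk hσ).eq]
      _ = _ := by simp only [χ]; group
  have hone : χ 1 = 1 := by simp [χ, E.D.ev_one E.hp]
  have hinv : ∀ {σ}, σ ∈ alternatingGroup (Pt p) → χ σ ∈ Subgroup.zpowers E.kap → χ σ⁻¹ = (χ σ)⁻¹ := by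
    intro σ hσ hk
    apply eq_inv_of_mul_eq_one_right
    rw [← hmul (inv_mem hσ) hσ hk, inv_mul_cancel, hone]
  let N : Subgroup (Perm (Pt p)) :=
    { carrier := {σ | σ ∈ alternatingGroup (Pt p) ∧ χ σ ∈ Subgroup.zpowers E.kap}
      one_mem' := ⟨one_mem _, hone ▸ one_mem _⟩
      mul_mem' := fun {σ τ} hσ hτ => ⟨mul_mem hσ.1 hτ.1, by
        rw [hmul hσ.1 hτ.1 hτ.2]; exact mul_mem hτ.2 hσ.2⟩
      inv_mem' := fun {σ} hσ => ⟨inv_mem hσ.1, by rw [hinv hσ.1 hσ.2]; exact inv_mem hσ.2⟩ }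
  have hχ0 : ∀ {σ}, Commute E.cS (E.D.ev E.hp σ) → χ σ = 1 := fun {σ} h => by
    show E.D.ev E.hp σ * E.cS * (E.D.ev E.hp σ)⁻¹ * E.cS⁻¹ = 1
    rw [← h.eq]; group
  have hX : permX p d ∈ alternatingGroup (Pt p) :=
    Equiv.Perm.mem_alternatingGroup.2 (sign_permX E.hd E.hp E.hd1)
  have hXN : permX p d ∈ N := ⟨hX, by
    show E.D.ev E.hp (permX p d) * E.cS * _ * E.cS⁻¹ ∈ _
    rw [cS, E.hK]; exact Subgroup.mem_zpowers _⟩
  set S : Set (Pt p) := {z | z ∉ dL p d ∧ z ≠ Sum.inr 1 ∧ z ≠ pt p (d + 1)}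
  have hRS : Rich N S := by
    intro a ha b hb c hc hab hac hbc
    have hm : cyc3 a b c ∈ alternatingGroup (Pt p) := Equiv.Perm.mem_alternatingGroup.2 (sign_cyc3 a b c hab hbc)
    refine ⟨hm, ?_⟩
    rw [hχ0 (E.cS_comm_small hm (fun z hz => cyc3_apply_of_ne (fun e => ha.1 (e ▸ hz))
      (fun e => hb.1 (e ▸ hz)) (fun e => hc.1 (e ▸ hz))) (cyc3_apply_of_ne ha.2.1.symm hb.2.1.symm hc.2.1.symm)
      (cyc3_apply_of_ne ha.2.2.symm hb.2.2.symm hc.2.2.symm))]
    exact one_mem _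
  obtain ⟨r, s, hrs, hr, hs⟩ := two_fixed E.hd E.hp (a := d + 1) (b := 0) (Or.inr rfl) (Or.inl rfl) (by omega)
  -- two points fixed by the first cycle
  have hfix : ∃ r s : Pt p, r ≠ s ∧ r ∈ S ∧ s ∈ S ∧ permX p d r = r ∧ permX p d s = s := by
    by_cases hd2 : d % 2 = 1
    · have := room E.hd E.hp hd2
      refine ⟨pt p (d + 2), pt p (d + 3), fun e => ?_, ?_, ?_, ?_, ?_⟩
      · have := pt_inj (by omega) (by omega) e; omega
      all_goals first
        | exact ⟨pt_notMem_dL E.hd (by omega) (by omega), pt_ne_inr _ _, fun e => by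
            have := pt_inj (by omega) (by omega) e; omega⟩
        | exact permX_fix (pt_notMem_dL E.hd (by omega) (by omega)) (pt_ne_inr _ _) fun e => by
            have := pt_inj (by omega) (by omega) e; omega
    · refine ⟨r, s, hrs, ⟨hr.1, hr.2.1 1, hr.2.2⟩, ⟨hs.1, hs.2.1 1, hs.2.2⟩, ?_, ?_⟩ <;>
        refine List.formPerm_apply_of_notMem ?_
      · simp [hd2, hr.1, hr.2.1 0]
      · simp [hd2, hs.1, hs.2.1 0]
  obtain ⟨r, s, hrs, hrS, hsS, hr, hs⟩ := hfix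
  set T : Set (Pt p) := {z | z ≠ Sum.inr 1 ∧ z ≠ pt p (d + 1)}
  have hRT : Rich N T := by
    refine (hRS.orbit (fun m hm => mul_mem (mul_mem hXN hm) (inv_mem hXN)) hrs hrS hsS
      (hr.symm ▸ hrS) (hs.symm ▸ hsS)).mono ?_
    intro z hz
    by_cases h : z ∈ dL p d
    · obtain ⟨i, hi⟩ := permX_reach E.hd E.hp h
      exact ⟨i, Sum.inr 0, ⟨inr_notMem_dL 0, by simp, (pt_ne_inr _ _).symm⟩, hi⟩
    · exact ⟨0, z, ⟨h, hz.1, hz.2⟩, rfl⟩
  let K : Subgroup (Perm (Pt p)) :=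
    { carrier := {σ | σ ∈ N ∧ χ σ = 1}
      one_mem' := ⟨one_mem _, hone⟩
      mul_mem' := fun {σ τ} hσ hτ => ⟨mul_mem hσ.1 hτ.1, by
        rw [hmul hσ.1.1 hτ.1.1 hτ.1.2, hσ.2, hτ.2, mul_one]⟩
      inv_mem' := fun {σ} hσ => ⟨inv_mem hσ.1, by rw [hinv hσ.1.1 hσ.1.2, hσ.2, inv_one]⟩ }
  have hKT : Rich K T := by
    intro a ha b hb c hc hab hac hbc
    refine ⟨hRT a ha b hb c hc hab hac hbc, ?_⟩
    classical
    have hcard : 1 < ((Finset.univ.erase (Sum.inr 1 : Pt p)).erase (pt p (d + 1)) \ {a, b, c}).card := by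
      have h3 : ({a, b, c} : Finset (Pt p)).card ≤ 3 := Finset.card_le_three
      have h4 := Finset.le_card_sdiff ({a, b, c} : Finset (Pt p))
        ((Finset.univ.erase (Sum.inr 1 : Pt p)).erase (pt p (d + 1)))
      rw [Finset.card_erase_of_mem (by simp [pt_ne_inr]), Finset.card_erase_of_mem (Finset.mem_univ _),
        Finset.card_univ, Fintype.card_sum, ZMod.card, Fintype.card_fin] at h4
      have := E.hp
      omega
    obtain ⟨x, hx, w, hw, hxw⟩ := Finset.one_lt_card.1 hcard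
    simp only [Finset.mem_sdiff, Finset.mem_erase, Finset.mem_univ, and_true, Finset.mem_insert,
      Finset.mem_singleton, not_or] at hx hw
    rw [cyc3_eq_commutator hab hac (Ne.symm hx.2.1) (Ne.symm hw.2.1) hbc (Ne.symm hx.2.2.1) (Ne.symm hw.2.2.1) (Ne.symm hx.2.2.2)
      (Ne.symm hw.2.2.2) hxw]
    have hP := hRT a ha b hb x ⟨hx.1.2, hx.1.1⟩ hab (Ne.symm hx.2.1) (Ne.symm hx.2.2.1)
    have hQ := hRT a ha c hc w ⟨hw.1.2, hw.1.1⟩ hac (Ne.symm hw.2.1) (Ne.symm hw.2.2.2)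
    set P := cyc3 a b x
    set Q := cyc3 a c w
    have hP' : χ P⁻¹ ∈ Subgroup.zpowers E.kap := (inv_mem hP : P⁻¹ ∈ N).2
    have hQ' : χ Q⁻¹ ∈ Subgroup.zpowers E.kap := (inv_mem hQ : Q⁻¹ ∈ N).2
    rw [hmul (mul_mem (mul_mem hP.1 hQ.1) (inv_mem hP.1)) (inv_mem hQ.1) hQ',
      hmul (mul_mem hP.1 hQ.1) (inv_mem hP.1) hP', hmul hP.1 hQ.1 hQ.2, hinv hP.1 hP.2, hinv hQ.1 hQ.2]
    obtain ⟨m, hm⟩ := hP.2
    obtain ⟨l, hl⟩ := hQ.2
    simp only at hm hl
    rw [← hm, ← hl]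
    group
  have := (hKT.mem (sign_permX E.hd E.hp E.hd1) fun z hz => ?_).2
  · exact E.hK.symm.trans this
  · simp only [T, Set.mem_ofPred_eq, not_and_or, not_not] at hz
    rcases hz with rfl | rfl
    · exact permX_fix (inr_notMem_dL 1) (by simp) (pt_ne_inr _ _).symm
    · refine permX_fix (pt_notMem_dL E.hd (by have := E.hd; omega) (by omega)) (pt_ne_inr _ _) fun e => ?_
      have := pt_inj (by have := E.hd; omega) (by have := E.hd; omega) e
      omega

theorem b_pow_e : E.D.b ^ E.D.e = E.D.ev E.hp (permB p E.D.g E.D.e ^ E.D.e) := mul_inv_eq_one.1 E.kap_eq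

end Rels

end CfsgLib.BoundedAlt
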