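import Cfsg.Agent.BoundedAlt.Carmichael
import Cfsg.Agent.CoxeterSym.Basic

/-!
# Small degrees
-/

set_option autoImplicit false

namespace CfsgLib.BoundedAlt

open Equiv Equiv.Perm

section Sym

/-- A map onto a group of at least that order is an isomorphism. -/
theorem nonempty_equiv_of_card_le {G T : Type*} [Group G] [Group T] [Finite G] (φ : G →* T)
    (hs : Function.Surjective φ) (h : Nat.card G ≤ Nat.card T) : Nonempty (G ≃* T) :=
  ⟨MulEquiv.ofBijective φ
    ((Nat.bijective_iff_surjective_and_card _).2 ⟨hs, le_antisymm h (Nat.card_le_card_of_surjective _ hs)⟩)⟩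

/-- The relators for the symmetric group on a transposition and a long cycle. -/
def symTwoRels (n : ℕ) : List (FreeGroup (Fin 2)) :=
  [FreeGroup.of 0 ^ 2, FreeGroup.of 1 ^ n, (FreeGroup.of 0 * FreeGroup.of 1) ^ (n - 1),
    (FreeGroup.of 0 * (FreeGroup.of 1 * FreeGroup.of 0 * (FreeGroup.of 1)⁻¹)) ^ 3] ++
  (List.range (n / 2 - 1)).map fun j =>
    (FreeGroup.of 0 * (FreeGroup.of 1 ^ (j + 2) * FreeGroup.of 0 * (FreeGroup.of 1 ^ (j + 2))⁻¹)) ^ 2

theorem symTwo_bound {G : Type*} [Group G] {n : ℕ} (hn : 2 ≤ n) (a b : G) (hgen : Subgroup.closure {a, b} = ⊤)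
    (ha : a ^ 2 = 1) (hb : b ^ n = 1) (hab : (a * b) ^ (n - 1) = 1) (hcube : (a * (b * a * b⁻¹)) ^ 3 = 1)
    (hpair : ∀ k, 2 ≤ k → k ≤ n / 2 → (a * (b ^ k * a * (b ^ k)⁻¹)) ^ 2 = 1) :
    Finite G ∧ Nat.card G ≤ n.factorial := by
  set t : ℕ → G := fun i => b ^ i * a * (b ^ i)⁻¹
  have ha' : a * a = 1 := by rw [← sq]; exact ha
  have hai : a⁻¹ = a := inv_eq_of_mul_eq_one_right ha'
  have hb1 : (b * a * b⁻¹)⁻¹ = b * a * b⁻¹ := by rw [mul_inv_rev, mul_inv_rev, hai, inv_inv, mul_assoc]
  have hcomm : ∀ k, 2 ≤ k → k + 2 ≤ n → Commute a (t k) := by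
    intro k h2 hk
    have key : ∀ k, 2 ≤ k → k ≤ n / 2 → Commute a (t k) := by
      intro k h2 h
      have e : (t k)⁻¹ = t k := by simp only [t, mul_inv_rev, hai, inv_inv, mul_assoc]
      have := eq_inv_of_mul_eq_one_left ((sq _).symm.trans (hpair k h2 h))
      rw [mul_inv_rev, e, hai] at this
      exact this
    by_cases h : k ≤ n / 2
    · exact key k h2 h
    · have h1 := key (n - k) (by omega) (by omega)
      have e : b ^ (n - k) = (b ^ k)⁻¹ := by rw [pow_sub _ (by omega), hb, one_mul]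
      simp only [t, e, inv_inv] at h1 ⊢
      have h3 := (h1.symm.map (MulAut.conj (b ^ k)).toMonoidHom)
      simp only [MulEquiv.coe_toMonoidHom, MulAut.conj_apply] at h3
      rwa [show b ^ k * ((b ^ k)⁻¹ * a * b ^ k) * (b ^ k)⁻¹ = a by group] at h3
  have hS : CoxeterSym.IsSymGens (n - 1) t := by
    refine ⟨fun i _ => ?_, fun i _ => ?_, fun i j hij hj => ?_⟩
    · rw [show t i * t i = b ^ i * (a * a) * (b ^ i)⁻¹ by simp only [t]; group, ha']; group
    · have h1 : a * (b * a * b⁻¹) * a = b * a * b⁻¹ * a * (b * a * b⁻¹) := by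
        generalize b * a * b⁻¹ = c at hcube hb1 ⊢
        have := eq_inv_of_mul_eq_one_left (show a * c * a * (c * a * c) = 1 by
          rw [← hcube, pow_three]; simp only [mul_assoc])
        rw [mul_inv_rev, mul_inv_rev, hb1, hai, ← mul_assoc] at this
        exact this
      calc t i * t (i + 1) * t i = b ^ i * (a * (b * a * b⁻¹) * a) * (b ^ i)⁻¹ := by simp only [t]; group
        _ = _ := by rw [h1]; simp only [t]; group
    · obtain ⟨k, rfl⟩ : ∃ k, j = i + k := ⟨j - i, by omega⟩
      have h1 := (hcomm k (by omega) (by omega)).map (MulAut.conj (b ^ i)).toMonoidHom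
      simp only [MulEquiv.coe_toMonoidHom, MulAut.conj_apply] at h1
      rwa [show b ^ i * t k * (b ^ i)⁻¹ = t (i + k) by simp only [t, pow_add]; group] at h1
  have hgenS : CoxeterSym.genSubgroup (n - 1) t = ⊤ := by
    set H := CoxeterSym.genSubgroup (n - 1) t
    have hm : ∀ i, i < n - 1 → t i ∈ H := fun i hi => CoxeterSym.mem_genSubgroup t hi
    have hP : ∀ i, i ≤ n - 1 → (a * b) ^ i * (b ^ i)⁻¹ ∈ H := by
      intro i
      induction i with
      | zero => intro _; simp
      | succ i ih =>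
        intro hi
        have e : (a * b) ^ i * (b ^ i)⁻¹ * t i = (a * b) ^ (i + 1) * (b ^ (i + 1))⁻¹ := by
          simp only [t, pow_succ]; group
        exact e ▸ mul_mem (ih (by omega)) (hm i (by omega))
    have hbH : b ∈ H := by
      have := hP (n - 1) le_rfl
      rwa [hab, one_mul, pow_sub _ (show 1 ≤ n by omega), hb, one_mul, inv_inv, pow_one] at this
    have haH : a ∈ H := by simpa [t] using hm 0 (by omega)
    rw [eq_top_iff, ← hgen, Subgroup.closure_le]
    rintro z (rfl | rfl) <;> assumption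
  have := CoxeterSym.finite_card_le_of_generated hS hgenS
  rwa [show n - 1 + 1 = n by omega] at this

theorem exists_symTwo {n : ℕ} (hn : 2 ≤ n) (A B : Perm (Fin n))
    (hrel : ∀ r ∈ symTwoRels n, FreeGroup.lift ![A, B] r = 1)
    (hAB : Subgroup.closure {A, B} = ⊤) :
    ∃ rels : Finset (FreeGroup (Fin 2)), rels.card ≤ n / 2 + 3 ∧
      Nonempty (PresentedGroup (↑rels : Set (FreeGroup (Fin 2))) ≃* Perm (Fin n)) := by
  classical
  set rels := (symTwoRels n).toFinset
  refine ⟨rels, (List.toFinset_card_le _).trans (by simp [symTwoRels]; omega), ?_⟩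
  have hrel' : ∀ r ∈ (↑rels : Set (FreeGroup (Fin 2))), FreeGroup.lift ![A, B] r = 1 := fun r hr =>
    hrel r (List.mem_toFinset.1 hr)
  let mk := PresentedGroup.mk (↑rels : Set (FreeGroup (Fin 2)))
  have hmk : ∀ r ∈ symTwoRels n, mk r = 1 := fun r hr =>
    PresentedGroup.one_of_mem (Finset.mem_coe.2 (List.mem_toFinset.2 hr))
  have hgen : Subgroup.closure {mk (FreeGroup.of 0), mk (FreeGroup.of 1)} = ⊤ := by
    rw [eq_top_iff, ← PresentedGroup.closure_range_of, Subgroup.closure_le]
    rintro _ ⟨i, rfl⟩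
    fin_cases i
    · exact Subgroup.subset_closure (Or.inl rfl)
    · exact Subgroup.subset_closure (Or.inr rfl)
  obtain ⟨hfin, hc⟩ := symTwo_bound hn _ _ hgen
    (by simpa using hmk _ (by simp [symTwoRels] : FreeGroup.of 0 ^ 2 ∈ symTwoRels n))
    (by simpa using hmk _ (by simp [symTwoRels] : FreeGroup.of 1 ^ n ∈ symTwoRels n))
    (by simpa using hmk _ (by simp [symTwoRels] : (FreeGroup.of 0 * FreeGroup.of 1) ^ (n - 1) ∈ symTwoRels n))
    (by simpa using hmk _ (by simp [symTwoRels] :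
      (FreeGroup.of 0 * (FreeGroup.of 1 * FreeGroup.of 0 * (FreeGroup.of 1)⁻¹)) ^ 3 ∈ symTwoRels n))
    (fun k h2 hk => by
      simpa using hmk _ (List.mem_append_right _ (List.mem_map.2 ⟨k - 2, List.mem_range.2 (by omega), by
        rw [show k - 2 + 2 = k by omega]⟩) :
        (FreeGroup.of 0 * (FreeGroup.of 1 ^ k * FreeGroup.of 0 * (FreeGroup.of 1 ^ k)⁻¹)) ^ 2 ∈ symTwoRels n))
  refine nonempty_equiv_of_card_le (PresentedGroup.toGroup hrel') ?_
    (by rwa [Nat.card_perm, Nat.card_fin])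
  rw [← MonoidHom.range_eq_top, eq_top_iff, ← hAB, Subgroup.closure_le]
  rintro z (rfl | rfl)
  · exact ⟨PresentedGroup.of 0, PresentedGroup.toGroup.of hrel'⟩
  · exact ⟨PresentedGroup.of 1, PresentedGroup.toGroup.of hrel'⟩

end Sym

section Alt

/-- The exponent: inversion at every step for even `m`. -/
def altExp (m : ℕ) : ℕ := if m % 2 = 0 then 2 else 1

/-- The conjugates of the second letter by powers of the first, with exponents. -/
def altTwoWord (m i : ℕ) {G : Type*} [Group G] (a x : G) : G := a ^ i * x ^ (altExp m ^ i) * (a ^ i)⁻¹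

theorem map_altTwoWord {G H : Type*} [Group G] [Group H] (φ : G →* H) (m i : ℕ) (a x : G) :
    φ (altTwoWord m i a x) = altTwoWord m i (φ a) (φ x) := by
  simp [altTwoWord]

theorem altTwo_carmichael {G : Type*} [Group G] (m : ℕ) (a x : G) (h3 : x ^ 3 = 1)
    (hp : ∀ k, 0 < k → k < m → (x * altTwoWord m k a x) ^ 2 = 1) :
    IsCarmichael fun i : Fin m => altTwoWord m i a x := by
  have hc : ∀ i, altExp m ^ i % 3 = 1 ∨ altExp m ^ i % 3 = 2 := by
    intro i
    rcases (show altExp m = 1 ∨ altExp m = 2 by unfold altExp; split_ifs <;> simp) with h | h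
    · rw [h, one_pow]; simp
    · rw [h]
      rcases (show 2 ^ i % 3 = 0 ∨ 2 ^ i % 3 = 1 ∨ 2 ^ i % 3 = 2 by omega) with h' | h'
      · exact absurd (Nat.prime_three.dvd_of_dvd_pow (Nat.dvd_of_mod_eq_zero h')) (by norm_num)
      · exact h'
  refine ⟨fun i => ?_, ?_⟩
  · show altTwoWord m i a x ^ 3 = 1
    rw [altTwoWord, conj_pow, ← pow_mul, mul_comm, pow_mul, h3, one_pow, mul_one, mul_inv_cancel]
  have key : ∀ i j : ℕ, i < j → j < m → (altTwoWord m i a x * altTwoWord m j a x) ^ 2 = 1 := by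
    intro i j hij hj
    obtain ⟨k, rfl⟩ : ∃ k, j = i + k := ⟨j - i, by omega⟩
    set z := altTwoWord m k a x
    have e1 : altTwoWord m (i + k) a x = a ^ i * z ^ (altExp m ^ i) * (a ^ i)⁻¹ := by
      simp only [z, altTwoWord]
      rw [conj_pow, ← pow_mul, ← pow_add (altExp m), add_comm k i, pow_add]
      group
    have hz : z ^ 3 = 1 := by
      simp only [z, altTwoWord]
      rw [conj_pow, ← pow_mul, mul_comm, pow_mul, h3, one_pow, mul_one, mul_inv_cancel]
    have h1 : (x * z) ^ 2 = 1 := hp k (by omega) (by omega)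
    have h2 : (x ^ (altExp m ^ i) * z ^ (altExp m ^ i)) ^ 2 = 1 := by
      rw [pow_eq_pow_mod _ h3, pow_eq_pow_mod _ hz]
      rcases hc i with h | h <;> rw [h]
      · simpa using h1
      · have hx2 : x ^ 2 = x⁻¹ := eq_inv_of_mul_eq_one_left (by rw [← pow_succ]; exact h3)
        have hz2 : z ^ 2 = z⁻¹ := eq_inv_of_mul_eq_one_left (by rw [← pow_succ]; exact hz)
        rw [hx2, hz2, ← mul_inv_rev, inv_pow, inv_eq_one,
          show (z * x) ^ 2 = z * (x * z) ^ 2 * z⁻¹ by simp only [sq]; group, h1]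
        group
    rw [e1, show altTwoWord m i a x * (a ^ i * z ^ (altExp m ^ i) * (a ^ i)⁻¹) =
      a ^ i * (x ^ (altExp m ^ i) * z ^ (altExp m ^ i)) * (a ^ i)⁻¹ by simp only [altTwoWord]; group,
      conj_pow, h2, mul_one, mul_inv_cancel]
  intro i j hij
  rcases Nat.lt_or_gt_of_ne (fun e => hij (Fin.ext e)) with h | h
  · exact key i j h j.2
  · have := key j i h i.2
    show (altTwoWord m i a x * altTwoWord m j a x) ^ 2 = 1
    rw [show ∀ u v : G, (u * v) ^ 2 = u * (v * u) ^ 2 * u⁻¹ from fun u v => by simp only [sq]; group, this]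
    group

theorem exists_altTwo (m : ℕ) (hm : 1 ≤ m) (A : Perm (Fin m ⊕ Fin 2)) (hA : A ∈ alternatingGroup _)
    (hstar : ∀ i : Fin m, altTwoWord m i A (star3 (Fin m) ⟨0, hm⟩) = star3 (Fin m) i) :
    ∃ rels : Finset (FreeGroup (Fin 2)), rels.card ≤ m + 1 ∧
      Nonempty (PresentedGroup (↑rels : Set (FreeGroup (Fin 2))) ≃* alternatingGroup (Fin m ⊕ Fin 2)) := by
  classical
  set i0 : Fin m := ⟨0, hm⟩
  let tw : (Fin m) → FreeGroup (Fin 2) := fun i => altTwoWord m i (FreeGroup.of 0) (FreeGroup.of 1)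
  let X0 : alternatingGroup (Fin m ⊕ Fin 2) := ⟨star3 (Fin m) i0, star3_mem i0⟩
  let f : FreeGroup (Fin 2) →* alternatingGroup (Fin m ⊕ Fin 2) := FreeGroup.lift ![⟨A, hA⟩, X0]
  have hfw : ∀ i : (Fin m), ((f (tw i) : alternatingGroup (Fin m ⊕ Fin 2)) : Perm (Fin m ⊕ Fin 2)) = star3 (Fin m) i := by
    intro i
    rw [← hstar i]
    simp [f, tw, altTwoWord, X0]
  have hAlt : alternatingGroup (Fin m ⊕ Fin 2) ≤
      (((alternatingGroup (Fin m ⊕ Fin 2)).subtype.comp f).comp (FreeGroup.lift tw)).range :=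
    alternating_le_of_star3 fun i => ⟨FreeGroup.of i, by simp [hfw]⟩
  obtain ⟨W, hW⟩ := hAlt hA
  set L : List (FreeGroup (Fin 2)) := [FreeGroup.of 1 ^ 3, FreeGroup.of 0 * (FreeGroup.lift tw W)⁻¹] ++
    (List.range (m - 1)).map fun k => (FreeGroup.of 1 * altTwoWord m (k + 1) (FreeGroup.of 0) (FreeGroup.of 1)) ^ 2
  set rels := L.toFinset
  refine ⟨rels, (List.toFinset_card_le _).trans (by simp [L]; omega), ?_⟩
  have hstarC := isCarmichael_star3 (ι := Fin m)
  have hx0 : altTwoWord m (i0 : ℕ) A (star3 (Fin m) i0) = star3 (Fin m) i0 := hstar i0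
  have hrel : ∀ r ∈ (↑rels : Set (FreeGroup (Fin 2))), f r = 1 := by
    intro r hr
    simp only [rels, Finset.mem_coe, List.mem_toFinset, L, List.mem_append, List.mem_cons, List.not_mem_nil,
      or_false, List.mem_map, List.mem_range] at hr
    apply Subtype.ext
    rcases hr with (rfl | rfl) | ⟨k, hk, rfl⟩
    · simpa [f, X0] using hstarC.cube i0
    · rw [map_mul, map_inv, Subgroup.coe_mul, Subgroup.coe_inv, Subgroup.coe_one, mul_inv_eq_one]
      simp only [f, FreeGroup.lift_apply_of]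
      exact hW.symm
    · have h1 := hfw ⟨k + 1, by omega⟩
      simp only [tw] at h1
      simp only [map_pow, map_mul, Subgroup.coe_pow, Subgroup.coe_mul, h1, Subgroup.coe_one]
      simp only [f, FreeGroup.lift_apply_of]
      exact hstarC.pair _ _ fun e => by simp [i0, Fin.ext_iff] at e
  let φ := PresentedGroup.toGroup hrel
  let mk := PresentedGroup.mk (↑rels : Set (FreeGroup (Fin 2)))
  have hφ : φ.comp mk = f := by
    ext i : 1
    exact PresentedGroup.toGroup.of hrel
  have hmk : ∀ r ∈ L, mk r = 1 := fun r hr => PresentedGroup.one_of_mem (Finset.mem_coe.2 (List.mem_toFinset.2 hr))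
  set a := mk (FreeGroup.of 0)
  set x := mk (FreeGroup.of 1)
  have hC := altTwo_carmichael m a x (by simp only [x]; rw [← map_pow]; exact hmk _ (by simp [L]))
    (fun k h0 hk => by
      have := hmk _ (List.mem_append_right _ (List.mem_map.2 ⟨k - 1, List.mem_range.2 (by omega), rfl⟩))
      rw [show k - 1 + 1 = k by omega, map_pow, map_mul, map_altTwoWord] at this
      exact this)
  obtain ⟨hfin, hc⟩ := hC.card_le Finset.univ
  have htop : Subgroup.closure ((fun i : (Fin m) => altTwoWord m i a x) '' ((Finset.univ : Finset (Fin m)) : Set (Fin m))) = ⊤ := by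
    rw [Finset.coe_univ, Set.image_univ, eq_top_iff, ← PresentedGroup.closure_range_of, Subgroup.closure_le]
    set K := Subgroup.closure (Set.range fun i : (Fin m) => altTwoWord m i a x)
    have hmem : ∀ w, mk (FreeGroup.lift tw w) ∈ K := by
      intro w
      have e : mk.comp (FreeGroup.lift tw) = FreeGroup.lift fun i : (Fin m) => altTwoWord m i a x := by
        ext i : 1
        simp [tw, map_altTwoWord, a, x]
      rw [← MonoidHom.comp_apply, e]
      exact (FreeGroup.range_lift_eq_closure (f := fun i : Fin m => altTwoWord m i a x)).le ⟨w, rfl⟩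
    rintro _ ⟨i, rfl⟩
    fin_cases i
    · have := hmk (FreeGroup.of 0 * (FreeGroup.lift tw W)⁻¹) (by simp [L])
      rw [map_mul, map_inv, mul_inv_eq_one] at this
      show a ∈ K
      rw [show a = mk (FreeGroup.lift tw W) from this]
      exact hmem W
    · show x ∈ K
      exact Subgroup.subset_closure ⟨i0, by simp [altTwoWord, i0]⟩
  rw [htop] at hfin hc
  have : Finite (PresentedGroup (↑rels : Set (FreeGroup (Fin 2)))) := Set.finite_univ_iff.1 (by simpa using hfin)
  refine nonempty_equiv_of_card_le φ ?_ ?_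
  · intro σ
    obtain ⟨w, hw⟩ := hAlt σ.2
    exact ⟨mk (FreeGroup.lift tw w), ((DFunLike.congr_fun hφ _).trans (Subtype.ext hw))⟩
  · have : Nontrivial (Fin m ⊕ Fin 2) := ⟨⟨Sum.inr 0, Sum.inr 1, by simp⟩⟩
    have h2 : 2 * Nat.card (alternatingGroup (Fin m ⊕ Fin 2)) = (m + 2).factorial := by
      rw [Nat.card_eq_fintype_card, two_mul_card_alternatingGroup, Fintype.card_perm, Fintype.card_sum,
        Fintype.card_fin, Fintype.card_fin]
    rw [Subgroup.card_top, Finset.card_univ, Fintype.card_fin] at hc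
    omega

end Alt

end CfsgLib.BoundedAlt
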