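import Mathlib

/-!
# Changing the generators of a finite presentation
-/

set_option autoImplicit false

namespace CfsgLib.BoundedAlt

open Classical in
/-- New generators `f` with words: old generator `s` is `w s` in the new ones, new generator `i` is
`v i` in the old ones. -/
theorem retarget {m k : ℕ} {T : Type*} [Group T] (rels : Finset (FreeGroup (Fin m)))
    (e : PresentedGroup (↑rels : Set (FreeGroup (Fin m))) ≃* T) (f : Fin k → T)
    (w : Fin m → FreeGroup (Fin k)) (v : Fin k → FreeGroup (Fin m))
    (hw : ∀ s, FreeGroup.lift f (w s) = e (PresentedGroup.of s))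
    (hv : ∀ i, e (PresentedGroup.mk _ (v i)) = f i) :
    ∃ rels' : Finset (FreeGroup (Fin k)),
      rels'.card ≤ rels.card + (Finset.univ.filter fun i => FreeGroup.lift w (v i) ≠ FreeGroup.of i).card ∧
        ∃ e' : PresentedGroup (↑rels' : Set (FreeGroup (Fin k))) ≃* T, ∀ i, e' (PresentedGroup.of i) = f i := by
  classical
  set S := Finset.univ.filter fun i => FreeGroup.lift w (v i) ≠ FreeGroup.of i
  set rels' := rels.image (FreeGroup.lift w) ∪ S.image fun i => FreeGroup.of i * (FreeGroup.lift w (v i))⁻¹
  refine ⟨rels', (Finset.card_union_le _ _).trans (Nat.add_le_add Finset.card_image_le Finset.card_image_le), ?_⟩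
  have hold : (FreeGroup.lift f).comp (FreeGroup.lift w) = e.toMonoidHom.comp (PresentedGroup.mk _) := by
    ext s
    simpa [PresentedGroup.of] using hw s
  have hrel : ∀ r ∈ (↑rels' : Set (FreeGroup (Fin k))), FreeGroup.lift f r = 1 := by
    intro r hr
    simp only [rels', Finset.coe_union, Set.mem_union, Finset.coe_image, Set.mem_image, Finset.mem_coe] at hr
    rcases hr with ⟨r₀, hr₀, rfl⟩ | ⟨i, -, rfl⟩
    · rw [← MonoidHom.comp_apply, hold, MonoidHom.comp_apply, PresentedGroup.one_of_mem (Finset.mem_coe.2 hr₀),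
        map_one]
    · rw [map_mul, map_inv, ← MonoidHom.comp_apply, hold, MonoidHom.comp_apply, mul_inv_eq_one,
        FreeGroup.lift_apply_of]
      exact (hv i).symm
  let π := PresentedGroup.toGroup hrel
  let mk' : FreeGroup (Fin k) →* PresentedGroup (↑rels' : Set (FreeGroup (Fin k))) := PresentedGroup.mk _
  have hψ : ∀ r ∈ (↑rels : Set (FreeGroup (Fin m))), FreeGroup.lift (fun s => mk' (w s)) r = 1 := by
    intro r hr
    rw [show FreeGroup.lift (fun s => mk' (w s)) = mk'.comp (FreeGroup.lift w) by ext s; simp]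
    exact PresentedGroup.one_of_mem (Finset.mem_coe.2 (Finset.mem_union_left _ (Finset.mem_image_of_mem _ hr)))
  let ψ := (PresentedGroup.toGroup hψ).comp e.symm.toMonoidHom
  have hψmk : ∀ r, ψ (e (PresentedGroup.mk _ r)) = mk' (FreeGroup.lift w r) := by
    intro r
    simp only [ψ, MonoidHom.comp_apply, MulEquiv.coe_toMonoidHom, MulEquiv.symm_apply_apply]
    exact DFunLike.congr_fun (show (PresentedGroup.toGroup hψ).comp (PresentedGroup.mk _) =
      mk'.comp (FreeGroup.lift w) by ext s; simpa [mk', PresentedGroup.of] using PresentedGroup.toGroup.of hψ (x := s)) r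
  have h1 : ψ.comp π = MonoidHom.id _ := by
    apply PresentedGroup.ext
    intro i
    rw [MonoidHom.comp_apply, PresentedGroup.toGroup.of, ← hv i, hψmk]
    show PresentedGroup.mk _ (FreeGroup.lift w (v i)) = PresentedGroup.of i
    by_cases hi : FreeGroup.lift w (v i) = FreeGroup.of i
    · rw [hi]; rfl
    · symm
      exact PresentedGroup.mk_eq_mk_of_mul_inv_mem (Finset.mem_coe.2
        (Finset.mem_union_right _ (Finset.mem_image_of_mem _ (Finset.mem_filter.2 ⟨Finset.mem_univ _, hi⟩))))
  have h2 : π.comp ψ = MonoidHom.id _ := by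
    ext t
    obtain ⟨z, rfl⟩ := e.surjective t
    obtain ⟨r, rfl⟩ := PresentedGroup.mk_surjective _ z
    rw [MonoidHom.comp_apply, hψmk]
    exact DFunLike.congr_fun (show π.comp (mk'.comp (FreeGroup.lift w)) =
      e.toMonoidHom.comp (PresentedGroup.mk _) by
        rw [← hold]; ext s
        simp only [MonoidHom.comp_apply, FreeGroup.lift_apply_of]
        exact DFunLike.congr_fun (show π.comp mk' = FreeGroup.lift f by
          ext i; simpa [mk', π, PresentedGroup.of] using PresentedGroup.toGroup.of hrel (x := i)) (w s)) r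
  exact ⟨MonoidHom.toMulEquiv π ψ h1 h2, fun i => PresentedGroup.toGroup.of hrel⟩

/-- Any generating pair. -/
theorem retarget_pair {m r : ℕ} {T : Type*} [Group T] (rels : Finset (FreeGroup (Fin m))) (hr : rels.card ≤ r)
    (e : PresentedGroup (↑rels : Set (FreeGroup (Fin m))) ≃* T) (a b : T)
    (hab : Subgroup.closure ({a, b} : Set T) = ⊤) :
    ∃ rels' : Finset (FreeGroup (Fin 2)), rels'.card ≤ r + 2 ∧
      ∃ e' : PresentedGroup (↑rels' : Set (FreeGroup (Fin 2))) ≃* T,
        e' (PresentedGroup.of 0) = a ∧ e' (PresentedGroup.of 1) = b := by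
  have hs : Function.Surjective (FreeGroup.lift ![a, b]) := by
    rw [← MonoidHom.range_eq_top, FreeGroup.range_lift_eq_closure, ← hab]
    congr 1
    simp [Set.pair_comm]
  choose w hw using fun s => hs (e (PresentedGroup.of s))
  choose v hv using fun i => PresentedGroup.mk_surjective _ (e.symm (![a, b] i))
  obtain ⟨rels', hc, e', he'⟩ := retarget rels e ![a, b] w v hw (fun i => by rw [hv i, MulEquiv.apply_symm_apply])
  refine ⟨rels', hc.trans (Nat.add_le_add hr ((Finset.card_filter_le _ _).trans ?_)), e', he' 0, he' 1⟩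
  simp

/-- A generating pair whose first member is an old generator. -/
theorem retarget_pair_gen {m r : ℕ} {T : Type*} [Group T] (rels : Finset (FreeGroup (Fin m))) (hr : rels.card ≤ r)
    (e : PresentedGroup (↑rels : Set (FreeGroup (Fin m))) ≃* T) (i₀ : Fin m) (b : T)
    (hab : Subgroup.closure ({e (PresentedGroup.of i₀), b} : Set T) = ⊤) :
    ∃ rels' : Finset (FreeGroup (Fin 2)), rels'.card ≤ r + 1 ∧
      Nonempty (PresentedGroup (↑rels' : Set (FreeGroup (Fin 2))) ≃* T) := by
  classical
  set a := e (PresentedGroup.of i₀) with ha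
  have hs : Function.Surjective (FreeGroup.lift ![a, b]) := by
    rw [← MonoidHom.range_eq_top, FreeGroup.range_lift_eq_closure, ← hab]
    congr 1
    simp [Set.pair_comm]
  choose w hw using fun s => hs (e (PresentedGroup.of s))
  obtain ⟨v₁, hv₁⟩ := PresentedGroup.mk_surjective _ (e.symm b)
  let w' := Function.update w i₀ (FreeGroup.of 0)
  have hw' : ∀ s, FreeGroup.lift ![a, b] (w' s) = e (PresentedGroup.of s) := by
    intro s
    by_cases h : s = i₀
    · subst h; simp [w', ha]
    · simp only [w', Function.update_of_ne h]; exact hw s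
  obtain ⟨rels', hc, e', -⟩ := retarget rels e ![a, b] w' ![FreeGroup.of i₀, v₁] hw' (fun i => by
    fin_cases i
    · rfl
    · show e (PresentedGroup.mk _ v₁) = b
      rw [hv₁, MulEquiv.apply_symm_apply])
  refine ⟨rels', hc.trans (Nat.add_le_add hr ?_), ⟨e'⟩⟩
  refine (Finset.card_le_card (t := {1}) fun i hi => ?_).trans (by simp)
  fin_cases i
  · simp [w'] at hi
  · simp

/-- Padding by a redundant generator. -/
theorem retarget_pad {m r : ℕ} {T : Type*} [Group T] (rels : Finset (FreeGroup (Fin m))) (hr : rels.card ≤ r)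
    (e : PresentedGroup (↑rels : Set (FreeGroup (Fin m))) ≃* T) :
    ∃ rels' : Finset (FreeGroup (Fin (m + 1))), rels'.card ≤ r + 1 ∧
      Nonempty (PresentedGroup (↑rels' : Set (FreeGroup (Fin (m + 1)))) ≃* T) := by
  classical
  obtain ⟨rels', hc, e', -⟩ := retarget rels e (Fin.snoc (fun s => e (PresentedGroup.of s)) (1 : T))
    (fun s => FreeGroup.of s.castSucc) (Fin.snoc (fun s => FreeGroup.of s) 1) (fun s => by simp)
    (fun i => by
      refine Fin.lastCases ?_ (fun s => ?_) i
      · simp
      · simp only [Fin.snoc_castSucc]; rfl)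
  refine ⟨rels', hc.trans (Nat.add_le_add hr ?_), ⟨e'⟩⟩
  refine (Finset.card_le_card (t := {Fin.last m}) fun i hi => ?_).trans (by simp)
  induction i using Fin.lastCases with
  | last => simp
  | cast s => simp at hi

end CfsgLib.BoundedAlt
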