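import Cfsg.Agent.BoundedAlt.Presentation
import Cfsg.Agent.BoundedAlt.Small
import Cfsg.Agent.BoundedAlt.Tietze
import Cfsg.Agent.SylvesterSchur.Basic

/-!
# Bounded presentations in every degree
-/

set_option autoImplicit false
set_option maxRecDepth 8000

namespace CfsgLib.BoundedAlt

open Equiv Equiv.Perm

/-- A prime `p` with `p + 2 ≤ n < 2 p`. -/
theorem exists_good_prime {n : ℕ} (hn : 7 ≤ n) : ∃ p, p.Prime ∧ 5 ≤ p ∧ p + 2 ≤ n ∧ n + 1 ≤ 2 * p := by
  classical
  set p := Nat.findGreatest Nat.Prime (n - 2) with hpdef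
  have h5 : 5 ≤ p := Nat.le_findGreatest (show 5 ≤ n - 2 by omega) Nat.prime_five
  have hp : p.Prime := Nat.findGreatest_spec (show 5 ≤ n - 2 by omega) Nat.prime_five
  have hle : p ≤ n - 2 := Nat.findGreatest_le _
  have hmax : ∀ q, q.Prime → q ≤ n - 2 → q ≤ p := fun q hq h => Nat.le_findGreatest h hq
  refine ⟨p, hp, h5, by omega, ?_⟩
  by_contra hc
  rcases (show 2 * p + 1 ≤ n ∨ n = 2 * p by omega) with h | h
  · obtain ⟨q, hq, h1, h2⟩ := Nat.exists_prime_lt_and_le_two_mul p hp.ne_zero
    have hne : q ≠ 2 * p := fun e => by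
      rcases hq.eq_one_or_self_of_dvd 2 ⟨p, e⟩ with h' | h' <;> omega
    have := hmax q hq (by omega)
    omega
  · obtain ⟨q, hq, h1, hdvd⟩ := CfsgLib.SylvesterSchur.exists_prime_gt_dvd_choose
      (k := p - 2) (m := 2 * p - 2) (by omega) (by omega)
    have h3 : q ∣ (2 * p - 2).descFactorial (p - 2) := by
      rw [Nat.descFactorial_eq_factorial_mul_choose]; exact hdvd.mul_left _
    rw [Nat.descFactorial_eq_prod_range, hq.prime.dvd_finsetProd_iff] at h3
    obtain ⟨i, hi, hqi⟩ := h3
    rw [Finset.mem_range] at hi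
    have hle' := Nat.le_of_dvd (by omega) hqi
    have hne1 : q ≠ p - 1 := fun e => by
      have : 2 ∣ p - 1 := by rcases hp.eq_two_or_odd with h' | h' <;> omega
      rcases hq.eq_one_or_self_of_dvd 2 (e ▸ this) with h' | h' <;> omega
    have hne2 : q ≠ p := fun e => by
      obtain ⟨c, hc'⟩ := hqi
      rw [e] at hc'
      rcases (show c = 0 ∨ c = 1 ∨ 2 ≤ c by omega) with rfl | rfl | h'
      · omega
      · omega
      · have := Nat.mul_le_mul_left p h'
        omega
    have := hmax q hq (by omega)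
    omega

theorem exists_unit (p : ℕ) [Fact p.Prime] (hp : 5 ≤ p) :
    ∃ (g : (ZMod p)ˣ) (s : ℕ), (∀ z : ZMod p, z ≠ 0 → ∃ t : ℕ, z = (g : ZMod p) ^ t) ∧
      (g : ZMod p) * ((s : ZMod p) + 1) = (s : ZMod p) := by
  obtain ⟨g, hg⟩ := IsCyclic.exists_generator (α := (ZMod p)ˣ)
  have hgen : ∀ z : ZMod p, z ≠ 0 → ∃ t : ℕ, z = (g : ZMod p) ^ t := by
    intro z hz
    obtain ⟨t, ht⟩ := mem_powers_iff_mem_zpowers.2 (hg (Units.mk0 z hz))
    exact ⟨t, by simpa using congrArg Units.val ht.symm⟩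
  refine ⟨g, ((g : ZMod p) * (1 - (g : ZMod p))⁻¹).val, hgen, ?_⟩
  have h1 : (1 : ZMod p) - g ≠ 0 := by
    intro h
    obtain ⟨t, ht⟩ := hgen 2 (fun h2 => by
      have := Nat.le_of_dvd (by omega) ((ZMod.natCast_eq_zero_iff 2 p).1 (by exact_mod_cast h2))
      omega)
    rw [← sub_eq_zero.1 h, one_pow] at ht
    exact absurd (congrArg (fun z => z - 1) ht) (by norm_num)
  rw [ZMod.natCast_zmod_val]
  field_simp
  ring

theorem permCongr_cyc3 {α β : Type*} [DecidableEq α] [DecidableEq β] (e : α ≃ β) (a b c : α) :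
    e.permCongrHom (cyc3 a b c) = cyc3 (e a) (e b) (e c) := by
  have h : ∀ a b : α, e.permCongrHom (Equiv.swap a b) = Equiv.swap (e a) (e b) := by
    intro a b
    ext z
    simp [Equiv.permCongrHom, Equiv.swap_apply_def, Equiv.symm_apply_eq]
    split_ifs <;> simp
  rw [cyc3, map_mul, h, h]; rfl

theorem sign_permCongrHom {α β : Type*} [Fintype α] [Fintype β] [DecidableEq α] [DecidableEq β] (e : α ≃ β)
    (σ : Perm α) : Perm.sign (e.permCongrHom σ) = Perm.sign σ :=
  Perm.sign_permCongr e σ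

theorem map_tgt {α β : Type*} [Fintype α] [Fintype β] [DecidableEq α] [DecidableEq β] (e : α ≃ β) (k : ℕ) :
    (tgt α k).map e.permCongrHom.toMonoidHom = tgt β k := by
  unfold tgt
  split_ifs
  · ext σ
    rw [Subgroup.mem_map_equiv, Equiv.Perm.mem_alternatingGroup, Equiv.Perm.mem_alternatingGroup,
      ← sign_permCongrHom e, MulEquiv.apply_symm_apply]
  · exact Subgroup.map_top_of_surjective _ e.permCongrHom.surjective

/-- Three generators, seven relations, and a pair through the third generator, in degree at least `7`. -/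
theorem exists_large {n : ℕ} (hn : 7 ≤ n) {e : ℕ} (he : e = 1 ∨ e = 2) :
    ∃ rels : Finset (FreeGroup (Fin 3)), rels.card ≤ 7 ∧
      ∃ f : PresentedGroup (↑rels : Set (FreeGroup (Fin 3))) ≃* tgt (Fin n) e,
        ∃ t, Subgroup.closure ({f (PresentedGroup.of 2), t} : Set (tgt (Fin n) e)) = ⊤ := by
  obtain ⟨p, hp, h5, hpn, hn2⟩ := exists_good_prime hn
  have : Fact p.Prime := ⟨hp⟩
  obtain ⟨g, s, hgen, hs⟩ := exists_unit p h5
  have finish : ∀ {α : Type} [Fintype α] [DecidableEq α], Fintype.card α = n → ∀ (u v q : α), u ≠ v → u ≠ q → v ≠ q →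
      ∀ (rels : Finset (FreeGroup (Fin 3))) (φ : PresentedGroup (↑rels : Set (FreeGroup (Fin 3))) →* Perm α),
      Function.Injective φ → φ.range = tgt α e → cyc3 q u v ∈ Subgroup.zpowers (φ (PresentedGroup.of 2)) →
      rels.card ≤ 7 →
      ∃ rels : Finset (FreeGroup (Fin 3)), rels.card ≤ 7 ∧
        ∃ f : PresentedGroup (↑rels : Set (FreeGroup (Fin 3))) ≃* tgt (Fin n) e,
          ∃ t, Subgroup.closure ({f (PresentedGroup.of 2), t} : Set (tgt (Fin n) e)) = ⊤ := by
    intro α _ _ hcard u v q huv huq hvq rels φ hinj hr hx hc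
    let c : α ≃ Fin n := Fintype.equivFinOfCardEq hcard
    set ψ := c.permCongrHom.toMonoidHom.comp φ with hψ
    have hψi : Function.Injective ψ := c.permCongrHom.injective.comp hinj
    have hψr : ψ.range = tgt (Fin n) e := by rw [hψ, MonoidHom.range_comp, hr, map_tgt]
    let f := (MonoidHom.ofInjective hψi).trans (MulEquiv.subgroupCongr hψr)
    have hf : ∀ z, (f z : Perm (Fin n)) = ψ z := fun z => rfl
    have hx' : cyc3 (c q) (c u) (c v) ∈ Subgroup.zpowers (ψ (PresentedGroup.of 2)) := by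
      obtain ⟨k, hk⟩ := hx
      refine ⟨k, ?_⟩
      show ψ (PresentedGroup.of 2) ^ k = _
      rw [← permCongr_cyc3, ← hk, map_zpow]
      rfl
    obtain ⟨t, ht⟩ := exists_pair he (c.injective.ne huv) (c.injective.ne huq) (c.injective.ne hvq)
      (hψr ▸ ⟨_, rfl⟩) hx'
    have htm : t ∈ tgt (Fin n) e := ht ▸ Subgroup.subset_closure (by simp)
    refine ⟨rels, hc, f, ⟨t, htm⟩, Subgroup.map_injective (Subgroup.subtype_injective _) ?_⟩
    rw [MonoidHom.map_closure, ← MonoidHom.range_eq_map, Subgroup.range_subtype, Set.image_pair]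
    exact ht
  rcases Nat.eq_or_lt_of_le hpn with hd0 | hd0
  · obtain ⟨rels, hc, φ, hi, hr, hx⟩ := exists_small hgen hs h5 he
    exact finish (by simp [Fintype.card_sum, ZMod.card, hd0]) (Sum.inr 0) (Sum.inr 1) (pt p 0) (by simp)
      (pt_ne_inr _ _).symm (pt_ne_inr _ _).symm rels φ hi hr hx hc
  · obtain ⟨d, rfl⟩ : ∃ d, n = p + d + 2 := ⟨n - p - 2, by omega⟩
    obtain ⟨rels, hc, φ, hi, hr, hx⟩ := exists_big (d := d) hgen hs h5 (by omega) (by omega) he
    exact finish (by simp [Fintype.card_sum, ZMod.card]) (jX p d (Sum.inr 0)) (jX p d (Sum.inr 1)) (jX p d (pt p 0))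
      (by simp [jX]) (by simp [jX, pt]) (by simp [jX, pt]) rels φ hi hr hx hc

/-- Killing both generators presents the trivial group. -/
theorem exists_trivial {r : ℕ} (hr : 2 ≤ r) (T : Type*) [Group T] [Subsingleton T] :
    ∃ rels : Finset (FreeGroup (Fin 2)), rels.card ≤ r ∧
      Nonempty (PresentedGroup (↑rels : Set (FreeGroup (Fin 2))) ≃* T) := by
  classical
  set rels : Finset (FreeGroup (Fin 2)) := Finset.univ.image FreeGroup.of
  have hS : ∀ z : PresentedGroup (↑rels : Set (FreeGroup (Fin 2))), z = 1 := by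
    intro z
    have hz : z ∈ Subgroup.closure (Set.range (PresentedGroup.of (rels := (↑rels : Set (FreeGroup (Fin 2)))))) := by
      rw [PresentedGroup.closure_range_of]; trivial
    refine Subgroup.mem_bot.1 ((Subgroup.closure_le _).2 ?_ hz)
    rintro _ ⟨i, rfl⟩
    exact PresentedGroup.one_of_mem (x := FreeGroup.of i)
      (Finset.mem_coe.2 (Finset.mem_image_of_mem _ (Finset.mem_univ i)))
  have : Subsingleton (PresentedGroup (↑rels : Set (FreeGroup (Fin 2)))) := ⟨fun a b => (hS a).trans (hS b).symm⟩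
  exact ⟨rels, Finset.card_image_le.trans (by simpa using hr),
    ⟨MonoidHom.toMulEquiv 1 1 (MonoidHom.ext fun _ => Subsingleton.elim _ _) (MonoidHom.ext fun _ => Subsingleton.elim _ _)⟩⟩

/-- The symmetric group of degree at most `6` on two generators. -/
theorem sym_small {n : ℕ} (h6 : n ≤ 6) :
    ∃ rels : Finset (FreeGroup (Fin 2)), rels.card ≤ 6 ∧
      Nonempty (PresentedGroup (↑rels : Set (FreeGroup (Fin 2))) ≃* Perm (Fin n)) := by
  classical
  rcases Nat.lt_or_ge n 2 with h | h
  · have : Subsingleton (Perm (Fin n)) := by interval_cases n <;> infer_instance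
    exact exists_trivial (by norm_num) _
  · obtain ⟨k, rfl⟩ : ∃ k, n = k + 2 := ⟨n - 2, by omega⟩
    have hcl : Subgroup.closure ({Equiv.swap (0 : Fin (k + 2)) 1, finRotate (k + 2)} : Set (Perm (Fin (k + 2)))) = ⊤ := by
      have := Equiv.Perm.closure_cycle_adjacent_swap (isCycle_finRotate (n := k)) (support_finRotate (n := k)) (0 : Fin (k + 2))
      rw [finRotate_succ_apply, zero_add, Set.pair_comm] at this
      exact this
    obtain ⟨rels, hc, hiso⟩ := exists_symTwo (n := k + 2) (by omega) (Equiv.swap 0 1) (finRotate (k + 2)) (by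
      intro r hr
      have hk : k ≤ 4 := by omega
      interval_cases k <;>
        simp [symTwoRels, List.range_succ] at hr <;>
        rcases hr with rfl | rfl | rfl | rfl | rfl | rfl <;>
        simp only [map_mul, map_pow, map_inv, FreeGroup.lift_apply_of] <;> decide) hcl
    exact ⟨rels, hc.trans (by omega), hiso⟩

/-- The alternating group of degree at most `6` on two generators. -/
theorem alt_small {n : ℕ} (h6 : n ≤ 6) :
    ∃ rels : Finset (FreeGroup (Fin 2)), rels.card ≤ 5 ∧
      Nonempty (PresentedGroup (↑rels : Set (FreeGroup (Fin 2))) ≃* alternatingGroup (Fin n)) := by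
  classical
  have via : ∀ (m : ℕ), n = m + 2 → m ≤ 4 → (∃ rels : Finset (FreeGroup (Fin 2)), rels.card ≤ m + 1 ∧
      Nonempty (PresentedGroup (↑rels : Set (FreeGroup (Fin 2))) ≃* alternatingGroup (Fin m ⊕ Fin 2))) →
      ∃ rels : Finset (FreeGroup (Fin 2)), rels.card ≤ 5 ∧
        Nonempty (PresentedGroup (↑rels : Set (FreeGroup (Fin 2))) ≃* alternatingGroup (Fin n)) := by
    rintro m rfl hm ⟨rels, hc, ⟨iso⟩⟩
    refine ⟨rels, by omega, ⟨iso.trans ?_⟩⟩
    let c : Fin m ⊕ Fin 2 ≃ Fin (m + 2) := finSumFinEquiv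
    exact ((Subgroup.equivMapOfInjective _ c.permCongrHom.toMonoidHom c.permCongrHom.injective).trans
      (MulEquiv.subgroupCongr (by simpa [tgt] using map_tgt c 1)))
  rcases Nat.lt_or_ge n 3 with h | h
  · have : Subsingleton (alternatingGroup (Fin n)) := by
      rw [alternatingGroup.eq_bot_of_card_le_two (by simpa using (show n ≤ 2 by omega))]; infer_instance
    exact exists_trivial (by norm_num) _
  · interval_cases n
    · exact via 1 rfl (by norm_num) (exists_altTwo 1 le_rfl 1 (one_mem _) (by decide))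
    · exact via 2 rfl (by norm_num) (exists_altTwo 2 (by norm_num)
        (Equiv.sumCongr (finRotate 2) (Equiv.swap 0 1)) (by rw [Equiv.Perm.mem_alternatingGroup]; decide)
        (by unfold altTwoWord altExp star3 cyc3; decide))
    · exact via 3 rfl (by norm_num) (exists_altTwo 3 (by norm_num)
        (Equiv.sumCongr (finRotate 3) 1) (by rw [Equiv.Perm.mem_alternatingGroup]; decide)
        (by unfold altTwoWord altExp star3 cyc3; decide))
    · exact via 4 rfl (by norm_num) (exists_altTwo 4 (by norm_num)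
        (Equiv.sumCongr (finRotate 4) (Equiv.swap 0 1)) (by rw [Equiv.Perm.mem_alternatingGroup]; decide)
        (by unfold altTwoWord altExp star3 cyc3; decide))

/-- `tgt` for `e = 1` and `e = 2`. -/
def tgtOne (n : ℕ) : tgt (Fin n) 1 ≃* alternatingGroup (Fin n) := MulEquiv.subgroupCongr (by simp [tgt])

/-- `tgt` for `e = 2`. -/
def tgtTwo (n : ℕ) : tgt (Fin n) 2 ≃* Perm (Fin n) :=
  (MulEquiv.subgroupCongr (by simp [tgt])).trans Subgroup.topEquiv

end CfsgLib.BoundedAlt
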