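import Cfsg.Agent.BoundedAlt.Perms
import Cfsg.Agent.BoundedAlt.Carmichael

/-!
# The permutations of `ZMod p ⊕ Fin 2` behind the relations
-/

set_option autoImplicit false

namespace CfsgLib.BoundedAlt

open Equiv Equiv.Perm

/-- The `p + 2` points. -/
abbrev Pt (p : ℕ) : Type := ZMod p ⊕ Fin 2

variable (p : ℕ)

/-- The point `j`. -/
def pt (j : ℕ) : Pt p := Sum.inl (j : ZMod p)

/-- The translation. -/
def permA : Perm (Pt p) := Equiv.sumCongr (Equiv.addLeft 1) 1

/-- The multiplication by `g`, times `(u v) ^ e`. -/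
def permB (g : (ZMod p)ˣ) (e : ℕ) : Perm (Pt p) := Equiv.sumCongr g.mulLeft (Equiv.swap 0 1 ^ e)

variable (d : ℕ)

/-- The points `1, …, d`. -/
def dL : List (Pt p) := (List.range d).map fun i => pt p (i + 1)

/-- The points `d + 1, …, p - 1`. -/
def restL : List (Pt p) := (List.range (p - d - 1)).map fun j => pt p (d + 1 + j)

/-- A long cycle on the complement of `1, …, d`. -/
def permR (e : ℕ) : Perm (Pt p) :=
  longCycle (Sum.inr 0) (Sum.inr 1) (pt p 0) (restL p d) (e + (p - d - 1))

/-- An involution of the parity of `d`, away from the marked points. -/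
def permPi : Perm (Pt p) := if d % 2 = 1 then Equiv.swap (pt p (d + 2)) (pt p (d + 3)) else 1

/-- The cycle on `u`, `1, …, d` and, for `d` odd, `0`. -/
def permX : Perm (Pt p) :=
  (Sum.inr 0 :: (dL p d ++ if d % 2 = 1 then [pt p 0] else [])).formPerm

/-- The cycle on `v`, `1, …, d` and, for `d` odd, `d + 1`. -/
def permS : Perm (Pt p) :=
  (Sum.inr 1 :: (dL p d ++ if d % 2 = 1 then [pt p (d + 1)] else [])).formPerm

variable {p d}

theorem pt_inj {i j : ℕ} (hi : i < p) (hj : j < p) (h : pt p i = pt p j) : i = j := by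
  have := Sum.inl.inj h
  rwa [ZMod.natCast_eq_natCast_iff', Nat.mod_eq_of_lt hi, Nat.mod_eq_of_lt hj] at this

theorem pt_ne_inr (i : ℕ) (k : Fin 2) : pt p i ≠ Sum.inr k := Sum.inl_ne_inr

theorem mem_dL {z : Pt p} : z ∈ dL p d ↔ ∃ i < d, pt p (i + 1) = z := by simp [dL]

theorem mem_restL {z : Pt p} : z ∈ restL p d ↔ ∃ j < p - d - 1, pt p (d + 1 + j) = z := by simp [restL]

theorem inr_notMem_dL (k : Fin 2) : (Sum.inr k : Pt p) ∉ dL p d := fun h => by
  obtain ⟨i, _, h⟩ := mem_dL.1 h
  exact pt_ne_inr _ _ h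

variable (hd : d + 3 ≤ p)
include hd

theorem pt_notMem_dL {j : ℕ} (hj : j < p) (h : j = 0 ∨ d < j) : pt p j ∉ dL p d := fun hm => by
  obtain ⟨i, hi, e⟩ := mem_dL.1 hm
  have := pt_inj (by omega) hj e
  omega

theorem nodup_dL : (dL p d).Nodup :=
  List.nodup_range.map_on fun i hi j hj e => by
    have := pt_inj (p := p) (by have := List.mem_range.1 hi; omega) (by have := List.mem_range.1 hj; omega) e
    omega

theorem nodup_R : ((Sum.inr 1 : Pt p) :: Sum.inr 0 :: pt p 0 :: restL p d).Nodup := by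
  have h : (restL p d).Nodup := List.nodup_range.map_on fun i hi j hj e => by
    have := pt_inj (p := p) (by have := List.mem_range.1 hi; omega) (by have := List.mem_range.1 hj; omega) e
    omega
  have h0 : pt p 0 ∉ restL p d := fun hm => by
    obtain ⟨j, hj, e⟩ := mem_restL.1 hm
    have := pt_inj (p := p) (by omega) (by omega) e
    omega
  have hr : ∀ k : Fin 2, (Sum.inr k : Pt p) ∉ restL p d := fun k hm => by
    obtain ⟨j, hj, e⟩ := mem_restL.1 hm
    exact pt_ne_inr _ _ e
  simp [List.nodup_cons, h, h0, hr, (pt_ne_inr _ _).symm]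

theorem mem_R [Fact p.Prime] {z : Pt p} (h : z ∉ dL p d) :
    z ∈ (Sum.inr 1 : Pt p) :: Sum.inr 0 :: pt p 0 :: restL p d := by
  rcases z with w | k
  · have e : pt p w.val = Sum.inl w := by simp [pt]
    by_cases h0 : w.val = 0
    · rw [← e, h0]; simp
    · by_cases h1 : w.val ≤ d
      · exact absurd (mem_dL.2 ⟨w.val - 1, by omega, by rw [show w.val - 1 + 1 = w.val by omega, e]⟩) h
      · have := w.val_lt
        simp only [List.mem_cons]
        exact Or.inr (Or.inr (Or.inr (mem_restL.2 ⟨w.val - d - 1, by omega,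
          by rw [show d + 1 + (w.val - d - 1) = w.val by omega, e]⟩)))
  · fin_cases k <;> simp

theorem permR_fix {e : ℕ} {z : Pt p} (hz : z ∈ dL p d) : permR p d e z = z := by
  refine longCycle_fix (nodup_R hd) _ fun hm => ?_
  obtain ⟨i, hi, rfl⟩ := mem_dL.1 hz
  simp only [List.mem_cons] at hm
  rcases hm with h | h | h | h
  · exact pt_ne_inr _ _ h
  · exact pt_ne_inr _ _ h
  · have := pt_inj (by omega) (by omega) h
    omega
  · obtain ⟨j, hj, e⟩ := mem_restL.1 h
    have := pt_inj (by omega) (by omega) e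
    omega

theorem sign_permR [Fact p.Prime] {e : ℕ} : Perm.sign (permR p d e) = (-1) ^ (e + 1) := by
  rw [permR, sign_longCycle (nodup_R hd), show (restL p d).length = p - d - 1 by simp [restL],
    show e + (p - d - 1) + (p - d - 1) + 1 = (e + 1) + 2 * (p - d - 1) by ring, pow_add, pow_mul]
  simp

theorem permPi_sq : permPi p d * permPi p d = 1 := by
  unfold permPi
  split_ifs <;> simp

theorem permPi_inv : (permPi p d)⁻¹ = permPi p d := inv_eq_of_mul_eq_one_right (permPi_sq hd)

theorem permPi_apply_apply (z : Pt p) : permPi p d (permPi p d z) = z := by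
  rw [← Perm.mul_apply, permPi_sq hd, Perm.one_apply]

omit hd in
theorem permPi_inr (k : Fin 2) : permPi p d (Sum.inr k : Pt p) = Sum.inr k := by
  unfold permPi
  split_ifs
  · exact Equiv.swap_apply_of_ne_of_ne (pt_ne_inr _ _).symm (pt_ne_inr _ _).symm
  · rfl

variable [Fact p.Prime] (hp : 5 ≤ p)
include hp

/-- For odd `d` there is room for one more point. -/
theorem room (h : d % 2 = 1) : d + 4 ≤ p := by
  rcases (Fact.out : p.Prime).eq_two_or_odd with h' | h' <;> omega

theorem permPi_pt {j : ℕ} (hj : j ≤ d + 1) : permPi p d (pt p j) = pt p j := by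
  unfold permPi
  split_ifs with h
  · have := room hd hp h
    refine Equiv.swap_apply_of_ne_of_ne (fun e => ?_) (fun e => ?_) <;>
      have := pt_inj (by omega) (by omega) e <;> omega
  · rfl

theorem permPi_dL {z : Pt p} (hz : z ∈ dL p d) : permPi p d z = z := by
  obtain ⟨i, hi, rfl⟩ := mem_dL.1 hz
  exact permPi_pt hd hp (by omega)

theorem permPi_mem_dL {z : Pt p} : permPi p d z ∈ dL p d ↔ z ∈ dL p d :=
  ⟨fun h => by rwa [← permPi_dL hd hp h, permPi_apply_apply hd] at h,
    fun h => by rwa [permPi_dL hd hp h]⟩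

theorem sign_permPi : Perm.sign (permPi p d) = (-1) ^ d := by
  unfold permPi
  split_ifs with h
  · have := room hd hp h
    rw [Perm.sign_swap (fun e => by have := pt_inj (by omega) (by omega) e; omega),
      Odd.neg_one_pow (Nat.odd_iff.2 h)]
  · rw [map_one, Even.neg_one_pow (Nat.even_iff.2 (by omega))]

theorem cycle_nodup (k : Fin 2) {j : ℕ} (hj : j < p) (h : j = 0 ∨ d < j) :
    ((Sum.inr k : Pt p) :: (dL p d ++ if d % 2 = 1 then [pt p j] else [])).Nodup := by
  have h1 := nodup_dL hd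
  have h2 := pt_notMem_dL hd hj h
  split_ifs
  · simp [List.nodup_cons, List.nodup_append, h1, inr_notMem_dL, (pt_ne_inr _ _).symm]
    exact fun a ha e => h2 (e ▸ ha)
  · simp [List.nodup_cons, h1, inr_notMem_dL]

theorem cycle_sign (hd1 : 1 ≤ d) (k : Fin 2) {j : ℕ} (hj : j < p) (h : j = 0 ∨ d < j) :
    Perm.sign ((Sum.inr k : Pt p) :: (dL p d ++ if d % 2 = 1 then [pt p j] else [])).formPerm = 1 := by
  have hl : (dL p d).length = d := by simp [dL]
  rw [sign_formPerm _ (cycle_nodup hd hp k hj h) (by simp [hl]; omega)]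
  apply Even.neg_one_pow
  rw [Nat.even_iff]
  split_ifs <;> simp [hl] <;> omega

theorem sign_permX (hd1 : 1 ≤ d) : Perm.sign (permX p d) = 1 := cycle_sign hd hp hd1 0 (by omega) (Or.inl rfl)

theorem sign_permS (hd1 : 1 ≤ d) : Perm.sign (permS p d) = 1 := cycle_sign hd hp hd1 1 (by omega) (Or.inr (by omega))

omit hd hp [Fact p.Prime] in
theorem permX_fix {z : Pt p} (h : z ∉ dL p d) (hu : z ≠ Sum.inr 0) (hq : z ≠ pt p 0) : permX p d z = z := by
  refine List.formPerm_apply_of_notMem ?_
  split_ifs <;> simp [h, hu, hq]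

omit hd hp [Fact p.Prime] in
theorem permS_fix {z : Pt p} (h : z ∉ dL p d) (hv : z ≠ Sum.inr 1) (hq : z ≠ pt p (d + 1)) :
    permS p d z = z := by
  refine List.formPerm_apply_of_notMem ?_
  split_ifs <;> simp [h, hv, hq]

theorem permX_reach {z : Pt p} (hz : z ∈ dL p d) : ∃ i : ℕ, (permX p d ^ i) (Sum.inr 0) = z :=
  exists_pow_head _ _ (cycle_nodup hd hp 0 (by omega) (Or.inl rfl)) (by simp [hz])

theorem permS_reach {z : Pt p} (hz : z ∈ dL p d) : ∃ i : ℕ, (permS p d ^ i) (Sum.inr 1) = z :=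
  exists_pow_head _ _ (cycle_nodup hd hp 1 (by omega) (Or.inr (by omega))) (by simp [hz])

/-- Two further points fixed by the cycles. -/
theorem two_fixed {a b : ℕ} (ha : a = 0 ∨ a = d + 1) (hb : b = 0 ∨ b = d + 1) (hab : a ≠ b) :
    ∃ r s : Pt p, r ≠ s ∧ (r ∉ dL p d ∧ (∀ k, r ≠ Sum.inr k) ∧ r ≠ pt p a) ∧
      (s ∉ dL p d ∧ (∀ k, s ≠ Sum.inr k) ∧ s ≠ pt p a) := by
  refine ⟨pt p (d + 2), pt p b, fun e => ?_, ⟨pt_notMem_dL hd (by omega) (by omega), pt_ne_inr _, fun e => ?_⟩,
    pt_notMem_dL hd (by omega) (by omega), pt_ne_inr _, fun e => ?_⟩ <;>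
    have := pt_inj (by omega) (by omega) e <;> omega

omit hd in
theorem sign_permA : Perm.sign (permA p) = 1 := by
  have h : permA p ^ p = 1 := by
    ext z
    have : ∀ n : ℕ, (permA p ^ n) z = Sum.map (fun w => (n : ZMod p) + w) id z := by
      intro n
      induction n with
      | zero => rcases z with w | k <;> simp
      | succ n ih => rw [pow_succ', Perm.mul_apply, ih]; rcases z with w | k <;> simp [permA] <;> ring
    rw [this, Perm.one_apply]
    rcases z with w | k <;> simp
  have h2 : Perm.sign (permA p) ^ p = 1 := by rw [← map_pow, h, map_one]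
  rcases Int.units_eq_one_or (Perm.sign (permA p)) with h3 | h3
  · exact h3
  · rw [h3, Odd.neg_one_pow ((Fact.out : p.Prime).odd_of_ne_two (by omega))] at h2
    exact absurd h2 (by decide)

omit hd in
theorem sign_permB (g : (ZMod p)ˣ) (hg : ∀ z : ZMod p, z ≠ 0 → ∃ t : ℕ, z = (g : ZMod p) ^ t) (e : ℕ) :
    Perm.sign (permB p g e) = (-1) ^ (e + 1) := by
  have hg1 : (g : ZMod p) ≠ 1 := fun h => by
    obtain ⟨t, ht⟩ := hg 2 (by
      intro h2
      have := Nat.le_of_dvd (by omega) (((ZMod.natCast_eq_zero_iff 2 p)).1 (by exact_mod_cast h2))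
      omega)
    rw [h, one_pow] at ht
    exact absurd (congrArg (fun z => z - 1) ht) (by norm_num)
  have hpow : ∀ (t : ℕ) (w : ZMod p), (g.mulLeft ^ t) w = (g : ZMod p) ^ t * w := by
    intro t w
    induction t with
    | zero => simp
    | succ t ih => rw [pow_succ', Perm.mul_apply, ih, pow_succ', mul_assoc]; rfl
  have hc : Perm.IsCycle (g.mulLeft : Perm (ZMod p)) := by
    refine ⟨1, by simpa using hg1, fun y hy => ?_⟩
    obtain ⟨t, ht⟩ := hg y (fun h => hy (by simp [h]))
    exact ⟨(t : ℤ), by rw [zpow_natCast, hpow, mul_one, ht]⟩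
  have hs : (g.mulLeft : Perm (ZMod p)).support = Finset.univ.erase 0 := by
    ext w
    rw [Perm.mem_support, Finset.mem_erase]
    simp only [Finset.mem_univ, and_true, Units.mulLeft_apply, ne_eq]
    exact not_congr ⟨fun h => by
      by_contra h0
      exact hg1 (mul_right_cancel₀ h0 (h.trans (one_mul w).symm)), fun h => by simp [h]⟩
  rw [permB, Perm.sign_sumCongr, hc.sign, hs, Finset.card_erase_of_mem (Finset.mem_univ _), Finset.card_univ,
    ZMod.card, map_pow, Perm.sign_swap (by decide),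
    Even.neg_one_pow (Nat.even_iff.2 (by rcases (Fact.out : p.Prime).eq_two_or_odd with h | h <;> omega)),
    pow_succ' (-1 : ℤˣ) e]

omit hd hp in
theorem permA_conj (i : ZMod p) : permA p * star3 (ZMod p) i * (permA p)⁻¹ = star3 (ZMod p) (1 + i) := by
  rw [star3, cyc3_conj]; rfl

omit hd hp in
theorem permB_conj (g : (ZMod p)ˣ) {e : ℕ} (he : e = 1 ∨ e = 2) (i : ZMod p) :
    permB p g e * star3 (ZMod p) i * (permB p g e)⁻¹ = star3 (ZMod p) ((g : ZMod p) * i) ^ (2 ^ e) := by
  rw [star3, cyc3_conj]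
  have h3 := isCarmichael_star3.cube ((g : ZMod p) * i)
  rcases he with rfl | rfl
  · rw [pow_one, sq, ← (isCarmichael_star3 (ι := ZMod p)).inv_eq, star3,
      cyc3_inv Sum.inl_ne_inr Sum.inl_ne_inr (by simp)]
    simp [permB]
  · rw [pow_eq_pow_mod _ h3]
    simp [permB, star3, sq, Perm.mul_apply]

end CfsgLib.BoundedAlt
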