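import Cfsg.Agent.BoundedAlt.Tools

/-!
# Permutations used in the bounded presentations
-/

set_option autoImplicit false

namespace CfsgLib.BoundedAlt

open Equiv Equiv.Perm

variable {α : Type*} [DecidableEq α]

/-- A rich set gives all even permutations supported on it. -/
theorem Rich.mem [Fintype α] {M : Subgroup (Perm α)} {S : Set α} (h : Rich M S) {σ : Perm α}
    (hs : Perm.sign σ = 1) (hf : ∀ z, z ∉ S → σ z = z) : σ ∈ M := by
  classical
  have hR : Rich (M.comap (Perm.ofSubtype (p := fun z => z ∈ S))) Set.univ := by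
    rintro ⟨a, ha⟩ _ ⟨b, hb⟩ _ ⟨c, hc⟩ _ hab hac hbc
    rw [Subgroup.mem_comap, cyc3, map_mul, Perm.ofSubtype_swap_eq, Perm.ofSubtype_swap_eq]
    exact h a ha b hb c hc (fun e => hab (Subtype.ext e)) (fun e => hac (Subtype.ext e))
      (fun e => hbc (Subtype.ext e))
  have h1 : ∀ z, σ z ∈ S ↔ z ∈ S := fun z => by
    by_cases hz : z ∈ S
    · refine iff_of_true ?_ hz
      by_contra hn
      rw [σ.injective (hf _ hn)] at hn
      exact hn hz
    · rw [hf z hz]
  have h2 : Perm.ofSubtype (σ.subtypePerm h1) = σ :=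
    Perm.ofSubtype_subtypePerm h1 (fun z hz => by_contra fun hn => hz (hf z hn))
  have := alternating_le_of_rich hR (show σ.subtypePerm h1 ∈ alternatingGroup _ by
    rw [Equiv.Perm.mem_alternatingGroup, ← Perm.sign_ofSubtype, h2, hs])
  rwa [Subgroup.mem_comap, h2] at this

theorem formPerm_pow_head (a : α) (l : List α) (hl : (a :: l).Nodup) (i : ℕ) (hi : i < (a :: l).length) :
    ((a :: l).formPerm ^ i) a = (a :: l)[i] := by
  have := List.formPerm_pow_apply_getElem (a :: l) hl i 0 (by simp)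
  simp only [List.getElem_cons_zero, zero_add, Nat.mod_eq_of_lt hi] at this
  exact this

theorem exists_pow_head (a : α) (l : List α) (hl : (a :: l).Nodup) {z : α} (hz : z ∈ a :: l) :
    ∃ i : ℕ, ((a :: l).formPerm ^ i) a = z := by
  obtain ⟨i, hi, rfl⟩ := List.getElem_of_mem hz
  exact ⟨i, formPerm_pow_head a l hl i hi⟩

theorem sign_formPerm [Fintype α] (l : List α) (hl : l.Nodup) (h2 : 2 ≤ l.length) :
    Perm.sign l.formPerm = (-1) ^ (l.length + 1) := by
  rw [(List.isCycle_formPerm hl h2).sign, List.support_formPerm_of_nodup _ hl (fun x e => by simp [e] at h2),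
    List.toFinset_card_of_nodup hl, pow_succ, mul_neg_one]

/-- The cycle `u → q → l → u`, times `(u v) ^ ε`. -/
def longCycle (u v q : α) (l : List α) (ε : ℕ) : Perm α := Equiv.swap u v ^ ε * (u :: q :: l).formPerm

section LongCycle

variable {u v q : α} {l : List α} (hl : (v :: u :: q :: l).Nodup) (ε : ℕ)

theorem swap_pow_apply_of_ne {a b z : α} (ha : z ≠ a) (hb : z ≠ b) (n : ℕ) : (Equiv.swap a b ^ n) z = z := by
  induction n with
  | zero => rfl
  | succ n ih => rw [pow_succ, Perm.mul_apply, Equiv.swap_apply_of_ne_of_ne ha hb, ih]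

theorem swap_pow_mem (a b : α) (n : ℕ) : (Equiv.swap a b ^ n) b = a ∨ (Equiv.swap a b ^ n) b = b := by
  induction n with
  | zero => exact Or.inr rfl
  | succ n ih =>
    rw [pow_succ', Perm.mul_apply]
    rcases ih with h | h <;> rw [h] <;> simp

include hl

theorem longCycle_head : longCycle u v q l ε u = q := by
  simp only [List.nodup_cons, List.mem_cons, not_or] at hl
  rw [longCycle, Perm.mul_apply, List.formPerm_apply_head u q l (by
    simp only [List.nodup_cons, List.mem_cons, not_or]; exact hl.2)]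
  exact swap_pow_apply_of_ne (Ne.symm hl.2.1.1) (Ne.symm hl.1.2.1) ε

theorem longCycle_v : longCycle u v q l ε v = u ∨ longCycle u v q l ε v = v := by
  rw [List.nodup_cons] at hl
  rw [longCycle, Perm.mul_apply, List.formPerm_apply_of_notMem hl.1]
  exact swap_pow_mem u v ε

theorem longCycle_fix {z : α} (hz : z ∉ v :: u :: q :: l) : longCycle u v q l ε z = z := by
  simp only [List.mem_cons, not_or] at hz
  rw [longCycle, Perm.mul_apply, List.formPerm_apply_of_notMem (by simp [hz.2.1, hz.2.2.1, hz.2.2.2])]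
  exact swap_pow_apply_of_ne hz.2.1 hz.1 ε

theorem sign_longCycle [Fintype α] : Perm.sign (longCycle u v q l ε) = (-1) ^ (ε + l.length + 1) := by
  have huv : u ≠ v := by
    simp only [List.nodup_cons, List.mem_cons, not_or] at hl
    exact Ne.symm hl.1.1
  rw [longCycle, map_mul, map_pow, Perm.sign_swap huv, sign_formPerm _ (List.nodup_cons.1 hl).2 (by simp),
    ← pow_add]
  simp only [List.length_cons]
  rw [show ε + (l.length + 1 + 1 + 1) = ε + l.length + 1 + 2 by ring, pow_add]
  simp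

theorem longCycle_reach {z : α} (hz : z ∈ u :: q :: l) : ∃ i : ℕ, (longCycle u v q l ε ^ i) u = z := by
  obtain ⟨i, hi, rfl⟩ := List.getElem_of_mem hz
  refine ⟨i, ?_⟩
  have hl' := (List.nodup_cons.1 hl).2
  induction i with
  | zero => rfl
  | succ i ih =>
    rw [pow_succ', Perm.mul_apply, ih (by omega) (List.getElem_mem _), longCycle, Perm.mul_apply,
      List.formPerm_apply_lt_getElem _ hl' i hi]
    refine swap_pow_apply_of_ne ?_ ?_ ε
    · intro e
      exact absurd ((hl'.getElem_inj_iff (i := i + 1) (j := 0) (hi := hi) (hj := by simp)).1 e) (by omega)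
    · intro e
      exact (List.nodup_cons.1 hl).1 (e ▸ List.getElem_mem hi)

/-- A three-cycle and the long cycle give all three-cycles. -/
theorem rich_longCycle {M : Subgroup (Perm α)} (hc : cyc3 q u v ∈ M)
    (hn : ∀ m ∈ M, longCycle u v q l ε * m * (longCycle u v q l ε)⁻¹ ∈ M) :
    Rich M {z | z ∈ v :: u :: q :: l} := by
  have hl' := hl
  simp only [List.nodup_cons, List.mem_cons, not_or] at hl'
  have huv : u ≠ v := Ne.symm hl'.1.1
  have hS : Rich M ({q, u, v} : Set α) := by
    refine rich_of_star huv (by simp) (by simp) ?_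
    rintro i (rfl | rfl | rfl) hu hv
    · exact hc
    · exact absurd rfl hu
    · exact absurd rfl hv
  refine (hS.orbit hn huv (by simp) (by simp) (by simp [longCycle_head hl ε]) ?_).mono ?_
  · rcases longCycle_v hl ε with h | h <;> simp [h]
  · intro z hz
    rcases List.mem_cons.1 hz with rfl | hz
    · exact ⟨0, z, by simp, rfl⟩
    · obtain ⟨i, hi⟩ := longCycle_reach hl ε hz
      exact ⟨i, u, by simp, hi⟩

end LongCycle

/-- Swap `f i` and `g i` for `i` in a list. -/
def swapAlong {κ : Type*} (f g : κ → α) (l : List κ) : Perm α := (l.map fun i => Equiv.swap (f i) (g i)).prod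

theorem swapAlong_fix {κ : Type*} {f g : κ → α} {l : List κ} {z : α} (h : ∀ i ∈ l, z ≠ f i ∧ z ≠ g i) :
    swapAlong f g l z = z := by
  induction l with
  | nil => rfl
  | cons a l ih =>
    rw [swapAlong, List.map_cons, List.prod_cons, Perm.mul_apply]
    rw [show (l.map fun i => Equiv.swap (f i) (g i)).prod z = z from ih fun i hi => h i (List.mem_cons_of_mem _ hi)]
    exact Equiv.swap_apply_of_ne_of_ne (h a (by simp)).1 (h a (by simp)).2

theorem swapAlong_apply {κ : Type*} {f g : κ → α} (hf : Function.Injective f) (hg : Function.Injective g)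
    (hfg : ∀ i j, f i ≠ g j) {l : List κ} (hl : l.Nodup) {i : κ} (hi : i ∈ l) :
    swapAlong f g l (f i) = g i ∧ swapAlong f g l (g i) = f i := by
  induction l with
  | nil => simp at hi
  | cons a l ih =>
    obtain ⟨ha, hl⟩ := List.nodup_cons.1 hl
    rw [swapAlong, List.map_cons, List.prod_cons, Perm.mul_apply, Perm.mul_apply]
    rcases List.mem_cons.1 hi with rfl | hi
    · have e1 : swapAlong f g l (f i) = f i :=
        swapAlong_fix fun j hj => ⟨fun e => ha (hf e ▸ hj), hfg i j⟩
      have e2 : swapAlong f g l (g i) = g i :=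
        swapAlong_fix fun j hj => ⟨(hfg j i).symm, fun e => ha (hg e ▸ hj)⟩
      rw [swapAlong] at e1 e2
      simp [e1, e2]
    · have hne : i ≠ a := fun e => ha (e ▸ hi)
      obtain ⟨e1, e2⟩ := ih hl hi
      rw [swapAlong] at e1 e2
      rw [e1, e2]
      exact ⟨Equiv.swap_apply_of_ne_of_ne (hfg a i).symm (hg.ne hne),
        Equiv.swap_apply_of_ne_of_ne (hf.ne hne) (hfg i a)⟩

theorem sign_swapAlong [Fintype α] {κ : Type*} {f g : κ → α} (hfg : ∀ i, f i ≠ g i) (l : List κ) :
    Perm.sign (swapAlong f g l) = (-1) ^ l.length := by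
  induction l with
  | nil => simp [swapAlong]
  | cons a l ih =>
    rw [swapAlong, List.map_cons, List.prod_cons, map_mul, Perm.sign_swap (hfg a), List.length_cons, pow_succ']
    exact congrArg _ ih

section Five

variable {i u v q q' : α}

theorem star_left (hiu : i ≠ u) (hiv : i ≠ v) (hiq : i ≠ q) (huv : u ≠ v) (huq : u ≠ q) (hvq : v ≠ q) :
    cyc3 i u v = cyc3 i u q * cyc3 u v q := by
  ext z
  rw [Perm.mul_apply]
  by_cases h1 : z = i
  · subst h1; simp [cyc3_apply₁, cyc3_apply_of_ne, *, Ne.symm]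
  by_cases h2 : z = u
  · subst h2; simp [cyc3_apply₁, cyc3_apply₂, cyc3_apply_of_ne, *, Ne.symm]
  by_cases h3 : z = v
  · subst h3; simp [cyc3_apply₂, cyc3_apply₃, cyc3_apply_of_ne, *, Ne.symm]
  by_cases h4 : z = q
  · subst h4; simp [cyc3_apply₂, cyc3_apply₃, cyc3_apply_of_ne, *, Ne.symm]
  simp [cyc3_apply_of_ne, *, Ne.symm]

theorem star_right (hiu : i ≠ u) (hiv : i ≠ v) (hiq : i ≠ q) (hiq' : i ≠ q') (huv : u ≠ v) (huq : u ≠ q)
    (huq' : u ≠ q') (hvq : v ≠ q) (hvq' : v ≠ q') (hqq' : q ≠ q') :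
    cyc3 i u v = (cyc3 u v q)⁻¹ * cyc3 i v q' * (Equiv.swap u q * Equiv.swap v q') := by
  rw [cyc3_inv huv huq hvq]
  ext z
  rw [Perm.mul_apply, Perm.mul_apply, Perm.mul_apply]
  by_cases h1 : z = i
  · subst h1; simp [cyc3_apply₁, cyc3_apply₂, cyc3_apply₃, cyc3_apply_of_ne, Equiv.swap_apply_of_ne_of_ne, *, Ne.symm]
  by_cases h2 : z = u
  · subst h2; simp [cyc3_apply₁, cyc3_apply₂, cyc3_apply₃, cyc3_apply_of_ne, Equiv.swap_apply_of_ne_of_ne, *, Ne.symm]
  by_cases h3 : z = v
  · subst h3; simp [cyc3_apply₁, cyc3_apply₂, cyc3_apply₃, cyc3_apply_of_ne, Equiv.swap_apply_of_ne_of_ne, *, Ne.symm]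
  by_cases h4 : z = q
  · subst h4; simp [cyc3_apply₁, cyc3_apply₂, cyc3_apply₃, cyc3_apply_of_ne, Equiv.swap_apply_of_ne_of_ne, *, Ne.symm]
  by_cases h5 : z = q'
  · subst h5; simp [cyc3_apply₁, cyc3_apply₂, cyc3_apply₃, cyc3_apply_of_ne, Equiv.swap_apply_of_ne_of_ne, *, Ne.symm]
  simp [cyc3_apply_of_ne, Equiv.swap_apply_of_ne_of_ne, *, Ne.symm]

end Five

end CfsgLib.BoundedAlt
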