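import Cfsg.Agent.BoundedAlt.Concrete

/-!
# The presentations on three generators
-/

set_option autoImplicit false

namespace CfsgLib.BoundedAlt

open Equiv Equiv.Perm

/-- The word for the conjugates of `X` by powers of the first generator. -/
def xWord (p : ℕ) (X : FreeGroup (Fin 3)) (i : ZMod p) : FreeGroup (Fin 3) :=
  FreeGroup.of 0 ^ i.val * X * (FreeGroup.of 0 ^ i.val)⁻¹

/-- The word for a permutation. -/
noncomputable def wd {p : ℕ} [Fact p.Prime] (X : FreeGroup (Fin 3)) (σ : Perm (Pt p)) : FreeGroup (Fin 3) :=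
  FreeGroup.lift (xWord p X) (word σ)

variable {p : ℕ} [Fact p.Prime] {g : (ZMod p)ˣ} {s e : ℕ}

/-- The first four relators. -/
def seedRels (p : ℕ) (X : FreeGroup (Fin 3)) (s e : ℕ) : List (FreeGroup (Fin 3)) :=
  [FreeGroup.of 0 ^ p * (FreeGroup.of 1 ^ (p - 1))⁻¹,
    FreeGroup.of 1 * FreeGroup.of 0 ^ (s + 1) * (FreeGroup.of 1)⁻¹ * (FreeGroup.of 0 ^ s)⁻¹,
    FreeGroup.of 1 * X * (FreeGroup.of 1)⁻¹ * (X ^ (2 ^ e))⁻¹,
    X ^ 3 * ((X * (FreeGroup.of 0 * X * (FreeGroup.of 0)⁻¹)) ^ 2)⁻¹]

/-- The seed given by a map killing the first four relators. -/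
def seedOf {G : Type*} [Group G] (hgen : ∀ z : ZMod p, z ≠ 0 → ∃ t : ℕ, z = (g : ZMod p) ^ t)
    (hs : (g : ZMod p) * ((s : ZMod p) + 1) = (s : ZMod p)) (he : 0 < e) (X : FreeGroup (Fin 3))
    (m : FreeGroup (Fin 3) →* G) (hm : ∀ r ∈ seedRels p X s e, m r = 1) : Seed G p where
  a := m (FreeGroup.of 0)
  b := m (FreeGroup.of 1)
  x := m X
  g := g
  s := s
  e := e
  hgen := hgen
  hs := hs
  he := he
  ha := by simpa [mul_inv_eq_one] using hm _ (List.mem_cons_self ..)
  hb := by simpa [mul_inv_eq_one] using hm _ (List.mem_cons_of_mem _ (List.mem_cons_self ..))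
  hx := by simpa [mul_inv_eq_one] using hm _ (List.mem_cons_of_mem _ (List.mem_cons_of_mem _ (List.mem_cons_self ..)))
  hxx := by
    simpa [mul_inv_eq_one] using
      hm _ (List.mem_cons_of_mem _ (List.mem_cons_of_mem _ (List.mem_cons_of_mem _ (List.mem_cons_self ..))))

theorem seedOf_wd {G : Type*} [Group G] (hgen : ∀ z : ZMod p, z ≠ 0 → ∃ t : ℕ, z = (g : ZMod p) ^ t)
    (hs : (g : ZMod p) * ((s : ZMod p) + 1) = (s : ZMod p)) (he : 0 < e) (X : FreeGroup (Fin 3))
    (m : FreeGroup (Fin 3) →* G) (hm : ∀ r ∈ seedRels p X s e, m r = 1) (hp : 5 ≤ p) {σ : Perm (Pt p)}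
    (h : σ ∈ alternatingGroup (Pt p)) :
    m (wd X σ) = (seedOf hgen hs he X m hm).ev hp σ := by
  rw [← Seed.lift_xs_word _ hp h, wd, ← MonoidHom.comp_apply]
  congr 1
  ext i
  simp [xWord, Seed.xs, Seed.aP, seedOf]

/-- The images of the generators satisfy the first four relators. -/
theorem target_seedRels {H : Type*} [Group H] (φ : Perm (Pt p) →* H) (hp : 5 ≤ p)
    (hs : (g : ZMod p) * ((s : ZMod p) + 1) = (s : ZMod p)) (he : e = 1 ∨ e = 2) (X : FreeGroup (Fin 3))
    (m : FreeGroup (Fin 3) →* H) (h0 : m (FreeGroup.of 0) = φ (permA p))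
    (h1 : m (FreeGroup.of 1) = φ (permB p g e)) (hX : m X = φ (star3 (ZMod p) 0)) :
    ∀ r ∈ seedRels p X s e, m r = 1 := by
  have hstar := isCarmichael_star3 (ι := ZMod p)
  intro r hr
  simp only [seedRels, List.mem_cons, List.not_mem_nil, or_false] at hr
  rcases hr with rfl | rfl | rfl | rfl <;>
    simp only [map_mul, map_inv, map_pow, h0, h1, hX, mul_inv_eq_one] <;>
    simp only [← map_inv, ← map_pow, ← map_mul] <;> congr 1
  · rw [permA_pow, permB_pow g e hp]
  · exact permB_permA g e s hs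
  · rw [permB_conj g he, mul_zero]
  · rw [permA_conj, add_zero, hstar.cube, hstar.pair _ _ zero_ne_one]

theorem target_wd {H : Type*} [Group H] (φ : Perm (Pt p) →* H) (X : FreeGroup (Fin 3))
    (m : FreeGroup (Fin 3) →* H) (h0 : m (FreeGroup.of 0) = φ (permA p)) (hX : m X = φ (star3 (ZMod p) 0))
    {σ : Perm (Pt p)} (h : σ ∈ alternatingGroup (Pt p)) : m (wd X σ) = φ σ := by
  conv_rhs => rw [← lift_word h]
  rw [wd, ← MonoidHom.comp_apply, ← MonoidHom.comp_apply]
  congr 1
  ext i
  simp only [MonoidHom.comp_apply, FreeGroup.lift_apply_of, xWord, map_mul, map_inv, map_pow, h0, hX]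
  rw [← map_pow, ← map_inv, ← map_mul, ← map_mul, permA_pow_star, ZMod.natCast_zmod_val]

/-- From a map onto the target and a matching order bound to an isomorphism. -/
theorem injective_of_bound {G α : Type*} [Group G] [Fintype α] [DecidableEq α] [Nontrivial α] (he : e = 1 ∨ e = 2)
    (φ : G →* Perm α) (hr : φ.range = tgt α e) [Finite G]
    (hc : 2 * Nat.card G ≤ e * (Fintype.card α).factorial) : Function.Injective φ := by
  have h1 : Function.Surjective φ.rangeRestrict := φ.rangeRestrict_surjective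
  have h2 : Nat.card φ.range = Nat.card G := by
    refine le_antisymm (Nat.card_le_card_of_surjective _ h1) ?_
    rw [hr]
    have := card_tgt (α := α) he
    omega
  exact MonoidHom.rangeRestrict_injective_iff.1 ((Nat.bijective_iff_surjective_and_card _).2 ⟨h1, h2.symm⟩).1

section Big

variable {d : ℕ}

/-- The presentation on `p + d + 2` points. -/
theorem exists_big (hgen : ∀ z : ZMod p, z ≠ 0 → ∃ t : ℕ, z = (g : ZMod p) ^ t)
    (hs : (g : ZMod p) * ((s : ZMod p) + 1) = (s : ZMod p)) (hp : 5 ≤ p) (hd1 : 1 ≤ d) (hd : d + 3 ≤ p)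
    (he : e = 1 ∨ e = 2) :
    ∃ rels : Finset (FreeGroup (Fin 3)), rels.card ≤ 7 ∧
      ∃ φ : PresentedGroup (↑rels : Set (FreeGroup (Fin 3))) →* Perm (Big p d),
        Function.Injective φ ∧ φ.range = tgt (Big p d) e ∧
          cyc3 (jX p d (pt p 0)) (jX p d (Sum.inr 0)) (jX p d (Sum.inr 1)) ∈
            Subgroup.zpowers (φ (PresentedGroup.of 2)) := by
  classical
  have he0 : 0 < e := by omega
  set A := emb p d (permA p) with hA
  set B := emb p d (permB p g e) with hB
  set x := emb p d (star3 (ZMod p) 0) with hx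
  set y := yT p d with hy
  set m := FreeGroup.lift (![A, B, x * y] : Fin 3 → Perm (Big p d))
  set X : FreeGroup (Fin 3) := FreeGroup.of 2 ^ 4
  set Y : FreeGroup (Fin 3) := FreeGroup.of 2 ^ 3
  have hxy : Commute x y := (yT_comm_star hp hd).symm
  have hx3 : x ^ 3 = 1 := by rw [hx, ← map_pow, isCarmichael_star3.cube, map_one]
  have hy2 : y ^ 2 = 1 := by rw [sq]; exact yT_sq hp hd
  have hm0 : m (FreeGroup.of 0) = A := by simp [m]
  have hm1 : m (FreeGroup.of 1) = B := by simp [m]
  have hmX : m X = x := by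
    simp only [m, X, map_pow, FreeGroup.lift_apply_of]
    show (x * y) ^ 4 = x
    rw [hxy.mul_pow, pow_succ x 3, hx3, one_mul, show (4 : ℕ) = 2 * 2 from rfl, pow_mul, hy2, one_pow, mul_one]
  have hmY : m Y = y := by
    simp only [m, Y, map_pow, FreeGroup.lift_apply_of]
    show (x * y) ^ 3 = y
    rw [hxy.mul_pow, hx3, one_mul, pow_succ, hy2, one_mul]
  -- `y` as a word in the generators of the alternating group
  let tx : ZMod p ⊕ Fin d → FreeGroup (Fin 3) :=
    Sum.elim (xWord p X) fun i => Y * xWord p X ((((i : ℕ) + 1 : ℕ)) : ZMod p) * Y⁻¹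
  have hxw : ∀ i, m (xWord p X i) = emb p d (star3 (ZMod p) i) := fun i => by
    simp only [xWord, map_mul, map_inv, map_pow, hm0, hmX, hA, hx]
    rw [← map_pow, ← map_inv, ← map_mul, ← map_mul, permA_pow_star, ZMod.natCast_zmod_val]
  have htx : m.comp (FreeGroup.lift tx) = FreeGroup.lift (star3 (ZMod p ⊕ Fin d)) := by
    ext i : 1
    rcases i with i | i
    · simp only [MonoidHom.comp_apply, FreeGroup.lift_apply_of, tx, Sum.elim_inl, hxw]
      rw [star3, emb_cyc3]; rfl
    · simp only [MonoidHom.comp_apply, FreeGroup.lift_apply_of, tx, Sum.elim_inr, map_mul, map_inv, hxw, hmY]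
      exact star_new hp hd i
  have hAlt : alternatingGroup (Big p d) ≤ (m.comp (FreeGroup.lift tx)).range :=
    alternating_le_of_star3 fun i => by rw [htx]; exact ⟨FreeGroup.of i, by simp⟩
  obtain ⟨W, hW⟩ := hAlt (show y ∈ alternatingGroup (Big p d) from
    Equiv.Perm.mem_alternatingGroup.2 (sign_yT hp hd))
  -- the seven relators
  set R := permR p d e
  set π := permPi p d
  let r5 := Y * (wd X (R * (permB p g e)⁻¹) * FreeGroup.of 1) * Y⁻¹ *
    (wd X (π * R * π * (permB p g e)⁻¹) * FreeGroup.of 1)⁻¹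
  let cW := Y * wd X (permS p d) * Y⁻¹
  let r6 := wd X (permX p d) * cW * (wd X (permX p d))⁻¹ * cW⁻¹ *
    (FreeGroup.of 1 ^ e * (wd X (permB p g e ^ e))⁻¹)⁻¹
  let r7 := Y * (FreeGroup.lift tx W)⁻¹
  set rels : Finset (FreeGroup (Fin 3)) := (seedRels p X s e ++ [r5, r6, r7]).toFinset
  have hcard : rels.card ≤ 7 := (List.toFinset_card_le _).trans (by simp [seedRels])
  have hgB : Perm.sign (permB p g e) = (-1) ^ (e + 1) := sign_permB hp g hgen e
  have memB : permB p g e ^ e ∈ alternatingGroup (Pt p) := by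
    rw [Equiv.Perm.mem_alternatingGroup, map_pow, hgB]
    rcases he with rfl | rfl <;> simp
  have memR : R * (permB p g e)⁻¹ ∈ alternatingGroup (Pt p) := by
    rw [Equiv.Perm.mem_alternatingGroup, map_mul, map_inv, sign_permR hd, hgB, mul_inv_cancel]
  have memR' : π * R * π * (permB p g e)⁻¹ ∈ alternatingGroup (Pt p) := by
    rw [Equiv.Perm.mem_alternatingGroup, map_mul, map_mul, map_mul, map_inv, sign_permR hd, hgB,
      mul_comm (Perm.sign π), mul_assoc ((-1 : ℤˣ) ^ (e + 1)), ← map_mul, permPi_sq hd, map_one, mul_one,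
      mul_inv_cancel]
  have memX : permX p d ∈ alternatingGroup (Pt p) := Equiv.Perm.mem_alternatingGroup.2 (sign_permX hd hp hd1)
  have memS : permS p d ∈ alternatingGroup (Pt p) := Equiv.Perm.mem_alternatingGroup.2 (sign_permS hd hp hd1)
  have hwd : ∀ {σ}, σ ∈ alternatingGroup (Pt p) → m (wd X σ) = emb p d σ := fun {σ} h =>
    target_wd (emb p d) X m hm0 hmX h
  have hrel : ∀ r ∈ (↑rels : Set (FreeGroup (Fin 3))), m r = 1 := by
    intro r hr
    simp only [rels, Finset.mem_coe, List.mem_toFinset, List.mem_append, List.mem_cons, List.not_mem_nil,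
      or_false] at hr
    rcases hr with hr | rfl | rfl | rfl
    · exact target_seedRels (emb p d) hp hs he X m hm0 hm1 hmX r hr
    · simp only [r5, map_mul, map_inv, hwd memR, hwd memR', hm1, hB, hmY, mul_inv_eq_one,
        inv_mul_cancel_right]
      rw [← map_mul (emb p d) π R, ← map_mul (emb p d)]
      exact yT_conj hp hd fun z hz => permR_fix hd hz
    · simp only [r6, cW, map_mul, map_inv, map_pow, hwd memX, hwd memS, hwd memB, hm1, hB, hmY]
      simp only [mul_inv_eq_one]
      rw [(cycles_comm hp hd).eq, hy]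
      group
    · simp only [r7, map_mul, map_inv, hmY, mul_inv_eq_one]
      exact hW.symm
  let φ := PresentedGroup.toGroup hrel
  have hφ : φ.comp (PresentedGroup.mk _) = m := by
    ext i : 1
    exact PresentedGroup.toGroup.of hrel
  -- the order bound in the presented group
  let mk := PresentedGroup.mk (↑rels : Set (FreeGroup (Fin 3)))
  have hmk : ∀ r ∈ seedRels p X s e ++ [r5, r6, r7], mk r = 1 := fun r hr =>
    PresentedGroup.one_of_mem (Finset.mem_coe.2 (List.mem_toFinset.2 hr))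
  set D := seedOf hgen hs he0 X mk fun r hr => hmk r (List.mem_append_left _ hr)
  have hev : ∀ {σ}, σ ∈ alternatingGroup (Pt p) → mk (wd X σ) = D.ev hp σ := fun {σ} h =>
    seedOf_wd hgen hs he0 X mk _ hp h
  have q5 := hmk r5 (by simp)
  have q6 := hmk r6 (by simp)
  have q7 := hmk r7 (by simp)
  simp only [r5, map_mul, map_inv, hev memR, hev memR', mul_inv_eq_one] at q5
  simp only [r6, cW, map_mul, map_inv, map_pow, hev memX, hev memS, hev memB] at q6
  rw [mul_inv_eq_one] at q6
  simp only [r7, map_mul, map_inv, mul_inv_eq_one] at q7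
  let E : Rels (PresentedGroup (↑rels : Set (FreeGroup (Fin 3)))) p d :=
    { D := D, hp := hp, hd1 := hd1, hd := hd, he := he, y := mk Y
      hxy := by
        show Commute (mk Y) (mk X)
        simp only [X, Y, map_pow]
        exact (Commute.refl _).pow_pow 3 4
      hR := q5
      hK := q6 }
  have htxE : mk.comp (FreeGroup.lift tx) = FreeGroup.lift E.xx := by
    ext i : 1
    rcases i with i | i
    · simp [tx, Rels.xx, xWord, Seed.xs, Seed.aP, E, D, seedOf]
    · simp [tx, Rels.xx, xWord, Seed.xs, Seed.aP, E, D, seedOf]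
  have hy' : E.y ∈ Subgroup.closure (Set.range E.xx) := by
    rw [← FreeGroup.range_lift_eq_closure]
    refine ⟨W, ?_⟩
    rw [← htxE]; exact q7.symm
  have hgen' : Subgroup.closure {E.D.a, E.D.b, E.D.x, E.y} = ⊤ := by
    rw [eq_top_iff, ← PresentedGroup.closure_range_of, Subgroup.closure_le]
    rintro _ ⟨i, rfl⟩
    have h : ∀ z ∈ ({E.D.a, E.D.b, E.D.x, E.y} : Set _), z ∈ Subgroup.closure {E.D.a, E.D.b, E.D.x, E.y} :=
      fun z hz => Subgroup.subset_closure hz
    fin_cases i
    · exact h _ (Or.inl rfl)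
    · exact h _ (Or.inr (Or.inl rfl))
    · have e1 : (PresentedGroup.of 2 : PresentedGroup (↑rels : Set (FreeGroup (Fin 3)))) = E.D.x * E.y⁻¹ := by
        show mk (FreeGroup.of 2) = mk X * (mk Y)⁻¹
        rw [← map_inv, ← map_mul]
        congr 1
        simp only [X, Y]; group
      show PresentedGroup.of (2 : Fin 3) ∈ _
      rw [e1]
      exact mul_mem (h _ (Or.inr (Or.inr (Or.inl rfl)))) (inv_mem (h _ (Or.inr (Or.inr (Or.inr rfl)))))
  obtain ⟨hfin, hc⟩ := E.bound hy' hgen'
  have : Nontrivial (Big p d) := ⟨⟨Sum.inr 0, Sum.inr 1, by simp⟩⟩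
  have hBsign : Perm.sign B = (-1) ^ (e + 1) := by rw [hB, sign_emb, hgB]
  have hrange : φ.range = tgt (Big p d) e := by
    refine tgt_eq_of_sign he ?_ ?_ (b := B) ⟨mk (FreeGroup.of 1), (DFunLike.congr_fun hφ _).trans hm1⟩ hBsign
    · rw [MonoidHom.range_eq_map, ← PresentedGroup.closure_range_of, MonoidHom.map_closure, Subgroup.closure_le]
      rintro _ ⟨_, ⟨i, rfl⟩, rfl⟩
      simp only [φ, PresentedGroup.toGroup.of]
      fin_cases i
      · exact alt_le_tgt e (Equiv.Perm.mem_alternatingGroup.2 ((sign_emb _).trans (sign_permA hp)))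
      · exact mem_tgt_of_sign he hBsign
      · refine alt_le_tgt e ?_
        exact mul_mem (Equiv.Perm.mem_alternatingGroup.2 ((sign_emb _).trans
          (Equiv.Perm.mem_alternatingGroup.1 (star3_mem _))))
          (Equiv.Perm.mem_alternatingGroup.2 (sign_yT hp hd))
    · intro σ hσ
      obtain ⟨w, hw⟩ := hAlt hσ
      exact ⟨mk (FreeGroup.lift tx w), (DFunLike.congr_fun hφ _).trans hw⟩
  refine ⟨rels, hcard, φ, injective_of_bound he φ hrange ?_, hrange, ⟨4, ?_⟩⟩
  · simpa [E, D, seedOf, Fintype.card_sum, ZMod.card] using hc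
  · show φ (PresentedGroup.of 2) ^ (4 : ℤ) = _
    rw [zpow_ofNat, ← map_pow]
    show φ (mk (FreeGroup.of 2) ^ 4) = _
    rw [← map_pow, ← MonoidHom.comp_apply, hφ]
    exact hmX.trans (by rw [hx, star3, emb_cyc3]; simp [pt])

end Big

/-- The presentation on `p + 2` points. -/
theorem exists_small (hgen : ∀ z : ZMod p, z ≠ 0 → ∃ t : ℕ, z = (g : ZMod p) ^ t)
    (hs : (g : ZMod p) * ((s : ZMod p) + 1) = (s : ZMod p)) (hp : 5 ≤ p) (he : e = 1 ∨ e = 2) :
    ∃ rels : Finset (FreeGroup (Fin 3)), rels.card ≤ 7 ∧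
      ∃ φ : PresentedGroup (↑rels : Set (FreeGroup (Fin 3))) →* Perm (Pt p),
        Function.Injective φ ∧ φ.range = tgt (Pt p) e ∧
          cyc3 (pt p 0) (Sum.inr 0) (Sum.inr 1) ∈ Subgroup.zpowers (φ (PresentedGroup.of 2)) := by
  classical
  have he0 : 0 < e := by omega
  set m := FreeGroup.lift (![permA p, permB p g e, star3 (ZMod p) 0] : Fin 3 → Perm (Pt p))
  set X : FreeGroup (Fin 3) := FreeGroup.of 2
  have hm0 : m (FreeGroup.of 0) = permA p := by simp [m]
  have hm1 : m (FreeGroup.of 1) = permB p g e := by simp [m]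
  have hmX : m X = star3 (ZMod p) 0 := by simp [m, X]
  have hgB : Perm.sign (permB p g e) = (-1) ^ (e + 1) := sign_permB hp g hgen e
  have memB : permB p g e ^ e ∈ alternatingGroup (Pt p) := by
    rw [Equiv.Perm.mem_alternatingGroup, map_pow, hgB]
    rcases he with rfl | rfl <;> simp
  let r5 := FreeGroup.of 1 ^ e * (wd X (permB p g e ^ e))⁻¹
  set rels : Finset (FreeGroup (Fin 3)) := (seedRels p X s e ++ [r5]).toFinset
  have hcard : rels.card ≤ 7 := (List.toFinset_card_le _).trans (by simp [seedRels])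
  have hrel : ∀ r ∈ (↑rels : Set (FreeGroup (Fin 3))), m r = 1 := by
    intro r hr
    simp only [rels, Finset.mem_coe, List.mem_toFinset, List.mem_append, List.mem_cons, List.not_mem_nil,
      or_false] at hr
    rcases hr with hr | rfl
    · exact target_seedRels (MonoidHom.id _) hp hs he X m hm0 hm1 hmX r hr
    · simp only [r5, map_mul, map_inv, map_pow, hm1, target_wd (MonoidHom.id _) X m hm0 hmX memB,
        MonoidHom.id_apply, mul_inv_cancel]
  let φ := PresentedGroup.toGroup hrel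
  have hφ : φ.comp (PresentedGroup.mk _) = m := by
    ext i : 1
    exact PresentedGroup.toGroup.of hrel
  let mk := PresentedGroup.mk (↑rels : Set (FreeGroup (Fin 3)))
  have hmk : ∀ r ∈ seedRels p X s e ++ [r5], mk r = 1 := fun r hr =>
    PresentedGroup.one_of_mem (Finset.mem_coe.2 (List.mem_toFinset.2 hr))
  set D := seedOf hgen hs he0 X mk fun r hr => hmk r (List.mem_append_left _ hr)
  have q5 := hmk r5 (by simp)
  simp only [r5, map_mul, map_inv, map_pow, seedOf_wd hgen hs he0 X mk (fun r hr => hmk r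
    (List.mem_append_left _ hr)) hp memB, mul_inv_eq_one] at q5
  have hgen' : Subgroup.closure {D.a, D.b, D.x} = ⊤ := by
    rw [eq_top_iff, ← PresentedGroup.closure_range_of, Subgroup.closure_le]
    rintro _ ⟨i, rfl⟩
    fin_cases i
    · exact Subgroup.subset_closure (Or.inl rfl)
    · exact Subgroup.subset_closure (Or.inr (Or.inl rfl))
    · exact Subgroup.subset_closure (Or.inr (Or.inr rfl))
  obtain ⟨hfin, hc⟩ := D.bound hp he q5 hgen'
  have : Nontrivial (Pt p) := ⟨⟨Sum.inr 0, Sum.inr 1, by simp⟩⟩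
  have hrange : φ.range = tgt (Pt p) e := by
    refine tgt_eq_of_sign he ?_ ?_ (b := permB p g e) ⟨mk (FreeGroup.of 1), (DFunLike.congr_fun hφ _).trans hm1⟩ hgB
    · rw [MonoidHom.range_eq_map, ← PresentedGroup.closure_range_of, MonoidHom.map_closure, Subgroup.closure_le]
      rintro _ ⟨_, ⟨i, rfl⟩, rfl⟩
      simp only [φ, PresentedGroup.toGroup.of]
      fin_cases i
      · exact alt_le_tgt e (Equiv.Perm.mem_alternatingGroup.2 (sign_permA hp))
      · exact mem_tgt_of_sign he hgB
      · exact alt_le_tgt e (star3_mem _)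
    · refine alternating_le_of_star3 fun i => ⟨mk (xWord p X i), (DFunLike.congr_fun hφ _).trans ?_⟩
      simp only [xWord, map_mul, map_inv, map_pow, hm0, hmX]
      rw [permA_pow_star, ZMod.natCast_zmod_val]
  refine ⟨rels, hcard, φ, injective_of_bound he φ hrange ?_, hrange, ?_⟩
  · simpa [D, seedOf, Fintype.card_sum, ZMod.card] using hc
  · simp only [φ, PresentedGroup.toGroup.of, Rels.star_zero]
    exact ⟨1, by simp⟩

end CfsgLib.BoundedAlt
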