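import Mathlib

/-!
# Three-cycles inside a subgroup of a symmetric group
-/

set_option autoImplicit false

namespace CfsgLib.BoundedAlt

open Equiv Equiv.Perm

variable {α : Type*} [DecidableEq α]

/-- The three-cycle `a ↦ b ↦ c ↦ a`. -/
def cyc3 (a b c : α) : Perm α := Equiv.swap a b * Equiv.swap b c

theorem cyc3_conj (σ : Perm α) (a b c : α) : σ * cyc3 a b c * σ⁻¹ = cyc3 (σ a) (σ b) (σ c) := by
  simp only [cyc3, Equiv.swap_apply_apply]; group

section Three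

variable {a b c : α}

theorem cyc3_apply₁ (hab : a ≠ b) (hac : a ≠ c) : cyc3 a b c a = b := by
  simp [cyc3, Equiv.swap_apply_of_ne_of_ne hab hac]

theorem cyc3_apply₂ (hac : a ≠ c) (hbc : b ≠ c) : cyc3 a b c b = c := by
  simp [cyc3, Equiv.swap_apply_of_ne_of_ne hac.symm hbc.symm]

theorem cyc3_apply₃ : cyc3 a b c c = a := by simp [cyc3]

theorem cyc3_apply_of_ne {z : α} (ha : z ≠ a) (hb : z ≠ b) (hc : z ≠ c) : cyc3 a b c z = z := by
  simp [cyc3, Equiv.swap_apply_of_ne_of_ne hb hc, Equiv.swap_apply_of_ne_of_ne ha hb]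

theorem cyc3_inv (hab : a ≠ b) (hac : a ≠ c) (hbc : b ≠ c) : (cyc3 a b c)⁻¹ = cyc3 a c b := by
  apply inv_eq_of_mul_eq_one_right
  ext z
  rw [Perm.mul_apply, Perm.one_apply]
  by_cases ha : z = a
  · subst ha; rw [cyc3_apply₁ hac hab, cyc3_apply₃]
  by_cases hb : z = b
  · subst hb; rw [cyc3_apply₃, cyc3_apply₁ hab hac]
  by_cases hc : z = c
  · subst hc; rw [cyc3_apply₂ hab hbc.symm, cyc3_apply₂ hac hbc]
  rw [cyc3_apply_of_ne ha hc hb, cyc3_apply_of_ne ha hb hc]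

theorem cyc3_rot (hab : a ≠ b) (hac : a ≠ c) (hbc : b ≠ c) : cyc3 a b c = cyc3 b c a := by
  ext z
  by_cases ha : z = a
  · subst ha; rw [cyc3_apply₁ hab hac, cyc3_apply₃]
  by_cases hb : z = b
  · subst hb; rw [cyc3_apply₂ hac hbc, cyc3_apply₁ hbc hab.symm]
  by_cases hc : z = c
  · subst hc; rw [cyc3_apply₃, cyc3_apply₂ hab.symm hac.symm]
  rw [cyc3_apply_of_ne ha hb hc, cyc3_apply_of_ne hb hc ha]

end Three

theorem sign_cyc3 [Fintype α] (a b c : α) (hab : a ≠ b) (hbc : b ≠ c) : Perm.sign (cyc3 a b c) = 1 := by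
  simp [cyc3, Perm.sign_swap hab, Perm.sign_swap hbc]

/-- All three-cycles on `S` lie in `M`. -/
def Rich (M : Subgroup (Perm α)) (S : Set α) : Prop :=
  ∀ a ∈ S, ∀ b ∈ S, ∀ c ∈ S, a ≠ b → a ≠ c → b ≠ c → cyc3 a b c ∈ M

theorem Rich.mono {M : Subgroup (Perm α)} {S T : Set α} (h : Rich M S) (hT : T ⊆ S) : Rich M T :=
  fun a ha b hb c hc => h a (hT ha) b (hT hb) c (hT hc)

/-- A star of three-cycles gives all. -/
theorem rich_of_star {M : Subgroup (Perm α)} {S : Set α} {u v : α} (huv : u ≠ v) (hu : u ∈ S) (hv : v ∈ S)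
    (h : ∀ i ∈ S, i ≠ u → i ≠ v → cyc3 i u v ∈ M) : Rich M S := by
  -- pairs with `v`
  have hpair : ∀ i ∈ S, ∀ j ∈ S, i ≠ j → i ≠ v → j ≠ v → cyc3 i v j ∈ M := by
    intro i hi j hj hij hiv hjv
    by_cases hiu : i = u
    · subst hiu
      rw [← cyc3_rot (Ne.symm hij) hjv hiv]
      exact h j hj (Ne.symm hij) hjv
    by_cases hju : j = u
    · subst hju
      rw [← cyc3_inv hij hiv huv]
      exact inv_mem (h i hi hij hiv)
    have := mul_mem (mul_mem (h j hj hju hjv) (h i hi hiu hiv)) (inv_mem (h j hj hju hjv))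
    rwa [cyc3_conj, cyc3_apply_of_ne hij hiu hiv, cyc3_apply₂ hjv huv, cyc3_apply₃] at this
  intro a ha b hb c hc hab hac hbc
  by_cases hbv : b = v
  · subst hbv; exact hpair a ha c hc hac hab hbc.symm
  by_cases hav : a = v
  · subst hav
    rw [cyc3_rot hab hac hbc, cyc3_rot hbc hab.symm hac.symm]
    exact hpair c hc b hb hbc.symm hac.symm hbv
  by_cases hcv : c = v
  · subst hcv
    rw [cyc3_rot hab hac hbc]
    exact hpair b hb a ha hab.symm hbc hac
  have e : cyc3 a b c = cyc3 a v c * cyc3 b v a := by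
    ext z
    rw [Perm.mul_apply]
    by_cases h1 : z = a
    · subst h1
      rw [cyc3_apply₁ hab hac, cyc3_apply₃, cyc3_apply_of_ne hab.symm hbv hbc]
    by_cases h2 : z = b
    · subst h2
      rw [cyc3_apply₂ hac hbc, cyc3_apply₁ hbv hab.symm, cyc3_apply₂ hac (Ne.symm hcv)]
    by_cases h3 : z = c
    · subst h3
      rw [cyc3_apply₃, cyc3_apply_of_ne h2 hcv h1, cyc3_apply₃]
    by_cases h4 : z = v
    · subst h4
      rw [cyc3_apply_of_ne h1 h2 h3, cyc3_apply₂ hab.symm (Ne.symm hav), cyc3_apply₁ hav hac]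
    rw [cyc3_apply_of_ne h1 h2 h3, cyc3_apply_of_ne h2 h4 h1, cyc3_apply_of_ne h1 h4 h3]
  rw [e]
  exact mul_mem (hpair a ha c hc hac hav hcv) (hpair b hb a ha hab.symm hbv hav)

theorem Rich.union {M : Subgroup (Perm α)} {S T : Set α} (hS : Rich M S) (hT : Rich M T) {u v : α}
    (huv : u ≠ v) (hu : u ∈ S ∩ T) (hv : v ∈ S ∩ T) : Rich M (S ∪ T) :=
  rich_of_star huv (Or.inl hu.1) (Or.inl hv.1) fun i hi hiu hiv =>
    hi.elim (fun h => hS i h u hu.1 v hv.1 hiu hiv huv) (fun h => hT i h u hu.2 v hv.2 hiu hiv huv)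

theorem Rich.image {M : Subgroup (Perm α)} {S : Set α} (hS : Rich M S) {g : Perm α}
    (hg : ∀ m ∈ M, g * m * g⁻¹ ∈ M) : Rich M (g '' S) := by
  rintro _ ⟨a, ha, rfl⟩ _ ⟨b, hb, rfl⟩ _ ⟨c, hc, rfl⟩ hab hac hbc
  rw [← cyc3_conj]
  exact hg _ (hS a ha b hb c hc (fun h => hab (h ▸ rfl)) (fun h => hac (h ▸ rfl)) fun h => hbc (h ▸ rfl))

/-- The translates of `S` under a perm normalising `M`, when consecutive ones share two points. -/
theorem Rich.orbit {M : Subgroup (Perm α)} {S : Set α} (hS : Rich M S) {g : Perm α}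
    (hg : ∀ m ∈ M, g * m * g⁻¹ ∈ M) {u v : α} (huv : u ≠ v) (hu : u ∈ S) (hv : v ∈ S)
    (hgu : g u ∈ S) (hgv : g v ∈ S) : Rich M {z | ∃ (j : ℕ) (s : α), s ∈ S ∧ (g ^ j) s = z} := by
  have hj : ∀ j, Rich M ((g ^ j : Perm α) '' S) := by
    intro j
    induction j with
    | zero => simpa using hS
    | succ j ih =>
      have : ((g ^ (j + 1) : Perm α) '' S) = g '' ((g ^ j : Perm α) '' S) := by
        rw [Set.image_image, pow_succ']; rfl
      rw [this]; exact ih.image hg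
  have hU : ∀ j, Rich M {z | ∃ (i : ℕ) (s : α), i ≤ j ∧ s ∈ S ∧ (g ^ i) s = z} := by
    intro j
    induction j with
    | zero =>
      refine hS.mono ?_
      rintro z ⟨i, s, hi, hs, rfl⟩
      rw [Nat.le_zero.1 hi]; simpa using hs
    | succ j ih =>
      have e : ∀ w, (g ^ j) (g w) = (g ^ (j + 1)) w := fun w => by rw [pow_succ]; rfl
      refine (ih.union (hj (j + 1)) (u := (g ^ (j + 1)) u) (v := (g ^ (j + 1)) v)
        (fun h => huv ((g ^ (j + 1)).injective h))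
        ⟨⟨j, g u, le_rfl, hgu, e u⟩, u, hu, rfl⟩ ⟨⟨j, g v, le_rfl, hgv, e v⟩, v, hv, rfl⟩).mono ?_
      rintro z ⟨i, s, hi, hs, rfl⟩
      rcases Nat.lt_or_eq_of_le hi with h | rfl
      · exact Or.inl ⟨i, s, by omega, hs, rfl⟩
      · exact Or.inr ⟨s, hs, rfl⟩
  intro a ⟨i, s, hs, hi⟩ b ⟨i', s', hs', hi'⟩ c ⟨i'', s'', hs'', hi''⟩
  exact hU (i + i' + i'') a ⟨i, s, by omega, hs, hi⟩ b ⟨i', s', by omega, hs', hi'⟩ c ⟨i'', s'', by omega, hs'', hi''⟩

theorem isThreeCycle_eq_cyc3 [Fintype α] {σ : Perm α} (h : σ.IsThreeCycle) :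
    ∃ a b c : α, a ≠ b ∧ a ≠ c ∧ b ≠ c ∧ σ = cyc3 a b c := by
  have hc := h.isCycle
  obtain ⟨a, ha⟩ : ∃ a, σ a ≠ a := ⟨_, hc.choose_spec.1⟩
  have h3 : σ ^ 3 = 1 := by rw [← h.orderOf]; exact pow_orderOf_eq_one σ
  have e3 : σ (σ (σ a)) = a := by
    have := congrArg (fun τ : Perm α => τ a) h3
    simpa [pow_three'] using this
  have hac : a ≠ σ (σ a) := fun e => ha (by
    conv_lhs => rw [e]
    exact e3)
  have hbc : σ a ≠ σ (σ a) := fun e => ha (σ.injective e).symm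
  refine ⟨a, σ a, σ (σ a), ha.symm, hac, hbc, ?_⟩
  have hsupp : σ.support = {a, σ a, σ (σ a)} := by
    symm
    apply Finset.eq_of_subset_of_card_le
    · intro z hz
      simp only [Finset.mem_insert, Finset.mem_singleton] at hz
      rw [Perm.mem_support]
      rcases hz with rfl | rfl | rfl
      · exact ha
      · exact fun e => ha (σ.injective e)
      · exact fun e => hbc (σ.injective e).symm
    · rw [h.card_support, Finset.card_insert_of_notMem (by simp [ha.symm, hac]),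
        Finset.card_insert_of_notMem (by simp [hbc]), Finset.card_singleton]
  ext z
  by_cases hz : z ∈ σ.support
  · rw [hsupp] at hz
    simp only [Finset.mem_insert, Finset.mem_singleton] at hz
    rcases hz with rfl | rfl | rfl
    · rw [cyc3_apply₁ ha.symm hac]
    · rw [cyc3_apply₂ hac hbc]
    · rw [cyc3_apply₃, e3]
  · have hz' := Perm.notMem_support.1 hz
    rw [hsupp] at hz
    simp only [Finset.mem_insert, Finset.mem_singleton, not_or] at hz
    rw [cyc3_apply_of_ne hz.1 hz.2.1 hz.2.2, hz']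

theorem alternating_le_of_rich [Fintype α] {M : Subgroup (Perm α)} (h : Rich M Set.univ) :
    alternatingGroup α ≤ M := by
  rw [← closure_three_cycles_eq_alternating, Subgroup.closure_le]
  intro σ hσ
  obtain ⟨a, b, c, hab, hac, hbc, rfl⟩ := isThreeCycle_eq_cyc3 hσ
  exact h a trivial b trivial c trivial hab hac hbc

/-- A three-cycle on five points is a commutator. -/
theorem cyc3_eq_commutator {a b c d e : α} (hab : a ≠ b) (hac : a ≠ c) (had : a ≠ d) (hae : a ≠ e) (hbc : b ≠ c)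
    (hbd : b ≠ d) (hbe : b ≠ e) (hcd : c ≠ d) (hce : c ≠ e) (hde : d ≠ e) :
    cyc3 a b c = cyc3 a b d * cyc3 a c e * (cyc3 a b d)⁻¹ * (cyc3 a c e)⁻¹ := by
  rw [cyc3_conj, cyc3_inv hac hae hce, cyc3_apply₁ hab had, cyc3_apply_of_ne hac.symm hbc.symm hcd,
    cyc3_apply_of_ne hae.symm hbe.symm hde.symm]
  ext z
  rw [Perm.mul_apply]
  by_cases h1 : z = a
  · subst h1; rw [cyc3_apply₁ hab hac, cyc3_apply₁ hae hac, cyc3_apply₃]
  by_cases h2 : z = b
  · subst h2; rw [cyc3_apply₂ hac hbc, cyc3_apply_of_ne h1 hbe hbc, cyc3_apply₁ hbc hbe]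
  by_cases h3 : z = c
  · subst h3; rw [cyc3_apply₃, cyc3_apply₃, cyc3_apply_of_ne hab hac hae]
  by_cases h4 : z = e
  · subst h4; rw [cyc3_apply_of_ne h1 h2 h3, cyc3_apply₂ hac hce.symm, cyc3_apply₂ hbe hce]
  rw [cyc3_apply_of_ne h1 h2 h3, cyc3_apply_of_ne h1 h4 h3, cyc3_apply_of_ne h2 h3 h4]

end CfsgLib.BoundedAlt
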